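import Cfsg.Agent.H28.Frob_m3
import Cfsg.Prelude.Def_LieTypeDatum
import Cfsg.Agent.FastGrp
import Cfsg.Agent.Prune
set_option linter.all false
prune_inst 0x7f00000000000000000000000000000000000000000000000000000000000000000000000000000000000000000000000000000000000000000000000000000000000000000000000000000000000000003fffffffffffffffffffffffffffbeffbdffffffff
open scoped Cfsg.Agent.FastGrp

/-!
# Outer automorphisms for the `Z*_p` rows: generalities (helper628)

* `langAt_of` : `LangAt p X` if all elements of order `p` of the coset `D X` of the subgroup `D ≥ Inn` of `Aut(L)` are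
  conjugate to a fixed element `φ`;
* `inner_of_pow` : if some power `X ^ k` with `k` prime to the order of `X` is inner then `X` is inner.
-/

set_option autoImplicit false

namespace Cfsg.Agent.H628.ZOutBasic

open Cfsg Cfsg.Agent.H28.ZIso

universe u

variable {L : Type u} [Group L] {p : ℕ}

/-- If `X s = s` then `conj s` and `X` commute in `Aut(L)`. -/
theorem commute_conj {X : MulAut L} {s : L} (h : X s = s) : Commute (MulAut.conj s) X := by
  rw [commute_iff_eq]
  ext y
  simp only [MulAut.mul_apply, MulAut.conj_apply, map_mul, map_inv, h]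

theorem pow_conj_mul {X : MulAut L} {s : L} (hs : orderOf s = p) (h : X s = s) (hX : X ^ p = 1) :
    (MulAut.conj s * X) ^ p = 1 := by
  rw [(commute_conj h).mul_pow, hX, mul_one, ← map_pow, ← hs, pow_orderOf_eq_one, map_one]

theorem langAt_of {D : Subgroup (MulAut L)} (hinn : ∀ g : L, MulAut.conj g ∈ D) {φ X : MulAut L}
    (H : ∀ δ ∈ D, (δ * φ) ^ p = 1 → IsConjUnder D φ (δ * φ)) (hX : X * φ⁻¹ ∈ D) (hXp : X ^ p = 1) :
    LangAt p X := by
  intro s hs hXs
  have h1 := H _ hX (by rw [inv_mul_cancel_right]; exact hXp)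
  have h2 := H _ (D.mul_mem (hinn s) hX) (by
    rw [← mul_assoc, inv_mul_cancel_right]
    exact pow_conj_mul hs hXs hXp)
  rw [← mul_assoc, inv_mul_cancel_right] at h2
  rw [inv_mul_cancel_right] at h1
  obtain ⟨a, -, ha⟩ := h1
  obtain ⟨b, -, hb⟩ := h2
  refine ⟨b * a⁻¹, ?_⟩
  rw [hb, ha]
  group

/-- If some power `X ^ k`, `k` prime to the order of `X`, is inner then `X` is inner. -/
theorem inner_of_pow {X : MulAut L} {k : ℕ} (hX : orderOf X = p) (hk : k.Coprime p)
    (h : ∃ g : L, X ^ k = MulAut.conj g) : ∃ g : L, X = MulAut.conj g := by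
  obtain ⟨g, hg⟩ := h
  obtain ⟨m, hm⟩ := exists_pow_eq_self_of_coprime (n := k) (x := X) (by rwa [hX])
  exact ⟨g ^ m, by rw [map_pow, ← hg, hm]⟩

theorem coprime_two_pow {p : ℕ} (hp : p.Prime) (hp2 : p ≠ 2) (k : ℕ) : (2 ^ k).Coprime p := by
  have h1 : Nat.Coprime 2 p := (Nat.coprime_primes Nat.prime_two hp).2 hp2.symm
  exact h1.pow_left k

end Cfsg.Agent.H628.ZOutBasic
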