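import Cfsg.Agent.H28.Frob_m3
import Cfsg.Agent.CpAut.Descent
import Cfsg.Agent.H202.Descent
import Cfsg.Agent.CpAutTwF.FieldAut
import Cfsg.Agent.H71.FldAut
import Cfsg.Agent.S1156
import Cfsg.Agent.H70.SzAutThm
import Cfsg.Agent.H67.SzOdd
import Cfsg.Agent.FastGrp
import Cfsg.Agent.Prune
set_option linter.all false

section
prune_inst 0x7f00000000000000000000000000000000000000000000000000000000000000000000000000000000000000000000000000000000000000000000000000000000000000000000000000000000000000003fffffffffffffffffffffffffffbeffbdffffffff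

-- part: H628/ZRankOne
section
set_option linter.all false
open scoped Cfsg.Agent.FastGrp

/-!
# Outer automorphisms for the `Z*_p` rows: field automorphisms (helper628)

`h : MinCex p x` in `G`, `e : G' ≃* L`, `X = MulAut.congr e (conjNormal x)` the induced automorphism of `L`.

* `exists_sylow_fixed` : `X` fixes a Sylow `p`-subgroup of `L` elementwise;
* `false_of_factorization` : contradiction if the `p`-part of the number of fixed points of `X` is less than that of `|L|`;
* `exists_norm_sylow` : if `x ∉ G'` and `X s = g s g⁻¹` for some `s ∈ L` of prime order `r ≠ p`, then `X` normalises a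
  Sylow `r`-subgroup of `L`;
* `exists_opp` : an automorphism of order `p` normalising `U` (order prime to `p`) fixes a point opposite to it;
* `exists_conj_frame` : Hilbert 90 for automorphisms `conj (h a) * Φ τ`;
* `card_fixed_of` : fixed points in rank one groups; `lt_factorization` : the arithmetic.
-/

set_option autoImplicit false

namespace Cfsg.Agent.H628.ZRankOne

open Subgroup Cfsg Cfsg.Agent.H256.ZBasic Cfsg.Agent.H256.ZRed Cfsg.Agent.H256.ZTool Cfsg.Agent.H28.ZIso

universe u v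

/-- The fixed points of an automorphism. -/
def fixedSub {L : Type v} [Group L] (X : MulAut L) : Subgroup L where
  carrier := {y | X y = y}
  mul_mem' {a b} ha hb := by
    change X (a * b) = a * b
    rw [map_mul, ha, hb]
  one_mem' := map_one X
  inv_mem' {a} ha := by
    change X a⁻¹ = a⁻¹
    rw [map_inv, ha]

theorem mem_fixedSub {L : Type v} [Group L] {X : MulAut L} {y : L} : y ∈ fixedSub X ↔ X y = y := Iff.rfl

theorem card_fixedSub_conj {L : Type v} [Group L] (δ X : MulAut L) :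
    Nat.card (fixedSub (δ * X * δ⁻¹)) = Nat.card (fixedSub X) := by
  refine Nat.card_congr (δ⁻¹.toEquiv.subtypeEquiv fun y => ?_)
  rw [mem_fixedSub, mem_fixedSub]
  change δ (X (δ⁻¹ y)) = y ↔ X (δ⁻¹ y) = δ⁻¹ y
  constructor
  · intro h
    apply δ.injective
    rw [h, MulAut.apply_inv_self]
  · intro h
    rw [h, MulAut.apply_inv_self]

section MinCex

variable {G : Type u} [Group G] [Finite G] {p : ℕ} [hp : Fact p.Prime] {x : G} {L : Type v} [Group L]

omit [Finite G] hp in
theorem induced_apply (e : commutator G ≃* L) (x : G) (y : commutator G) :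
    ((e.symm (MulAut.congr e (MulAut.conjNormal x) (e y)) : commutator G) : G) = x * y * x⁻¹ := by
  simp only [MulAut.congr, MulEquiv.coe_mk, Equiv.coe_fn_mk, MulEquiv.trans_apply,
    MulEquiv.symm_apply_apply, MulAut.conjNormal_apply]

omit [Finite G] hp in
theorem induced_apply' (e : commutator G ≃* L) (x : G) (y : L) :
    ((e.symm (MulAut.congr e (MulAut.conjNormal x) y) : commutator G) : G) = x * (e.symm y : commutator G) * x⁻¹ := by
  have := induced_apply e x (e.symm y)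
  rwa [e.apply_symm_apply] at this

/-- `x` centralises a Sylow `p`-subgroup of `G'`. -/
theorem exists_sylow_fixed (h : MinCex p x) (e : commutator G ≃* L) :
    ∃ P : Sylow p L, ∀ y ∈ (P : Subgroup L), MulAut.congr e (MulAut.conjNormal x) y = y := by
  obtain ⟨P⟩ : Nonempty (Sylow p (commutator G)) := inferInstance
  obtain ⟨g, hg⟩ := exists_conj_centralizes (p := p) h.iso h.pord
    (P.isPGroup'.map (commutator G).subtype)
  set Q : Sylow p L := ((MulAut.conjNormal g⁻¹ : MulAut (commutator G)) • P).mapSurjective (f := e.toMonoidHom)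
    e.surjective with hQ
  refine ⟨Q, fun y hy => ?_⟩
  obtain ⟨z, hz, rfl⟩ := hy
  apply e.symm.injective
  apply Subtype.ext
  rw [MulEquiv.coe_toMonoidHom, induced_apply, e.symm_apply_apply]
  -- `z` is a `g⁻¹`-conjugate
  have hz' : MulAut.conjNormal g z ∈ (P : Subgroup (commutator G)) := by
    have h1 := (Subgroup.mem_pointwise_smul_iff_inv_smul_mem (a := (MulAut.conjNormal g⁻¹ : MulAut (commutator G)))
      (S := (P : Subgroup (commutator G))) (x := z)).1 hz
    rw [← map_inv, inv_inv] at h1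
    exact h1
  have h2 := hg _ ⟨_, hz', rfl⟩
  rw [subtype_apply, MulAut.conjNormal_apply] at h2
  have h3 : x * (z : G) = z * x := by
    have h4 : g * (x * z) * g⁻¹ = g * (z * x) * g⁻¹ := by
      calc g * (x * z) * g⁻¹ = g * x * g⁻¹ * (g * z * g⁻¹) := by group
        _ = g * z * g⁻¹ * (g * x * g⁻¹) := h2
        _ = g * (z * x) * g⁻¹ := by group
    exact mul_left_cancel (mul_right_cancel h4)
  rw [h3, mul_inv_cancel_right]

theorem card_sylow_dvd (h : MinCex p x) (e : commutator G ≃* L) :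
    p ^ (Nat.card L).factorization p ∣ Nat.card (fixedSub (MulAut.congr e (MulAut.conjNormal x))) := by
  have : Finite L := Finite.of_equiv _ e.toEquiv
  obtain ⟨P, hP⟩ := exists_sylow_fixed h e
  rw [← P.card_eq_multiplicity]
  exact card_dvd_of_le hP

theorem false_of_factorization (h : MinCex p x) (e : commutator G ≃* L)
    (hlt : (Nat.card (fixedSub (MulAut.congr e (MulAut.conjNormal x)))).factorization p <
      (Nat.card L).factorization p) : False := by
  have : Finite L := Finite.of_equiv _ e.toEquiv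
  have h1 := card_sylow_dvd h e
  have h2 := (hp.out.pow_dvd_iff_le_factorization (Nat.card_pos (α := fixedSub _)).ne').1 h1
  omega

/-- `p` divides `|L|`. -/
theorem dvd_card (h : MinCex p x) (e : commutator G ≃* L) : p ∣ Nat.card L := by
  obtain ⟨s, hsG, hso, -⟩ := exists_comm_order h
  rw [← Nat.card_congr e.toEquiv, ← hso]
  have h1 : orderOf (⟨s, hsG⟩ : commutator G) = orderOf s :=
    (orderOf_injective (commutator G).subtype (subtype_injective _) ⟨s, hsG⟩).symm
  rw [← h1]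
  exact orderOf_dvd_natCard _

theorem exists_pow_mk (h : MinCex p x) (y : G ⧸ commutator G) :
    ∃ k : ℕ, y = (QuotientGroup.mk x : G ⧸ commutator G) ^ k := by
  have h1 : y ∈ zpowers (QuotientGroup.mk x : G ⧸ commutator G) := by
    have h2 : (⊤ : Subgroup (G ⧸ commutator G)) ≤ zpowers (QuotientGroup.mk x : G ⧸ commutator G) := by
      rw [← map_top_of_surjective _ (QuotientGroup.mk'_surjective (commutator G)), ← h.sup_commutator, map_le_iff_le_comap,
        sup_le_iff]
      constructor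
      · intro g hg
        rw [mem_comap]
        have h3 : QuotientGroup.mk' (commutator G) g = 1 := (QuotientGroup.eq_one_iff g).2 hg
        rw [h3]
        exact one_mem _
      · rw [zpowers_le, mem_comap]
        exact mem_zpowers _
    exact h2 (mem_top y)
  obtain ⟨k, hk⟩ := mem_powers_iff_mem_zpowers.2 h1
  exact ⟨k, hk.symm⟩

omit [Finite G] in
theorem orderOf_mk (h : MinCex p x) (hx : x ∉ commutator G) :
    orderOf (QuotientGroup.mk x : G ⧸ commutator G) = p := by
  have h1 : orderOf (QuotientGroup.mk x : G ⧸ commutator G) ∣ p := by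
    rw [← h.ord]
    exact orderOf_map_dvd (QuotientGroup.mk' _) x
  rcases (Nat.dvd_prime hp.out).1 h1 with h2 | h2
  · exact absurd ((QuotientGroup.eq_one_iff x).1 (orderOf_eq_one_iff.1 h2)) hx
  · exact h2

/-- **Invariant Sylow subgroups.** -/
theorem exists_norm_sylow (h : MinCex p x) (hx : x ∉ commutator G) (e : commutator G ≃* L) {r : ℕ}
    [hr : Fact r.Prime] (hrp : r ≠ p) {g s : L} (hs : orderOf s = r)
    (hXs : MulAut.congr e (MulAut.conjNormal x) s = g * s * g⁻¹) :
    ∃ S : Sylow r L, ∀ y ∈ (S : Subgroup L), MulAut.congr e (MulAut.conjNormal x) y ∈ (S : Subgroup L) := by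
  set s' : G := ((e.symm s : commutator G) : G) with hs'
  set g' : G := ((e.symm g : commutator G) : G) with hg'
  have hcs : g'⁻¹ * x * s' = s' * (g'⁻¹ * x) := by
    have h1 : x * s' * x⁻¹ = g' * s' * g'⁻¹ := by
      rw [hs', ← induced_apply', hXs, map_mul, map_mul, map_inv]
      rfl
    calc g'⁻¹ * x * s' = g'⁻¹ * (x * s' * x⁻¹) * x := by group
      _ = s' * (g'⁻¹ * x) := by rw [h1]; group
  have hmk : (QuotientGroup.mk (g'⁻¹ * x) : G ⧸ commutator G) = QuotientGroup.mk x := by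
    rw [QuotientGroup.mk_mul, (QuotientGroup.eq_one_iff _).2 (inv_mem (e.symm g).2), one_mul]
  have hord : p ∣ orderOf (g'⁻¹ * x) := by
    rw [← orderOf_mk h hx, ← hmk]
    exact orderOf_map_dvd (QuotientGroup.mk' _) _
  have hs'o : orderOf s' = r := by
    rw [← hs, ← MulEquiv.orderOf_eq e.symm s]
    exact orderOf_injective (commutator G).subtype (subtype_injective _) (e.symm s)
  obtain ⟨S, hS⟩ := exists_sylow_of_dvd h hrp (s := s') (by
      intro h1
      rw [h1, orderOf_one] at hs'o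
      exact hr.out.one_lt.ne hs'o) ⟨1, by rw [hs'o, pow_one]⟩ (hord.trans (by
        have h1 : g'⁻¹ * x ∈ centralizer ({s'} : Set G) := mem_centralizer_singleton_iff.2 hcs
        have h2 : orderOf (⟨g'⁻¹ * x, h1⟩ : centralizer ({s'} : Set G)) = orderOf (g'⁻¹ * x) :=
          (orderOf_injective (centralizer ({s'} : Set G)).subtype (subtype_injective _) ⟨g'⁻¹ * x, h1⟩).symm
        rw [← h2]
        exact orderOf_dvd_natCard _))
  -- `S ≤ G'`
  have hSG : (S : Subgroup G) ≤ commutator G := by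
    intro y hy
    rw [← QuotientGroup.eq_one_iff]
    obtain ⟨k, hk⟩ := exists_pow_mk h (QuotientGroup.mk y)
    have h1 : orderOf (QuotientGroup.mk y : G ⧸ commutator G) ∣ p := by
      rw [hk, ← orderOf_mk h hx]
      exact orderOf_pow_dvd k
    obtain ⟨j, hj⟩ := (IsPGroup.iff_orderOf.1 S.isPGroup') ⟨y, hy⟩
    have h2 : orderOf (QuotientGroup.mk y : G ⧸ commutator G) ∣ r ^ j := by
      rw [← hj]
      have h3 : orderOf (⟨y, hy⟩ : (S : Subgroup G)) = orderOf y :=
        (orderOf_injective (S : Subgroup G).subtype (subtype_injective _) ⟨y, hy⟩).symm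
      rw [h3]
      exact orderOf_map_dvd (QuotientGroup.mk' _) y
    have h3 : Nat.Coprime p (r ^ j) := Nat.Coprime.pow_right _ ((Nat.coprime_primes hp.out hr.out).2 hrp.symm)
    rw [← orderOf_eq_one_iff]
    exact Nat.dvd_one.1 (h3 ▸ Nat.dvd_gcd h1 h2)
  refine ⟨(S.subtype hSG).mapSurjective (f := e.toMonoidHom) e.surjective, ?_⟩
  rintro _ ⟨z, hz, rfl⟩
  have hz' : (z : G) ∈ (S : Subgroup G) := hz
  have h1 := (mem_normalizer_iff.1 hS z).1 hz'
  refine ⟨⟨x * z * x⁻¹, hSG h1⟩, h1, ?_⟩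
  apply e.symm.injective
  apply Subtype.ext
  rw [MulEquiv.coe_toMonoidHom, induced_apply, e.symm_apply_apply]

end MinCex

/-! ### Opposite points -/

/-- An automorphism `X` with `X ^ p = 1` normalising `U` fixes a point opposite to it. -/
theorem exists_opp {L : Type v} [Group L] [Finite L] {p : ℕ} [hp : Fact p.Prime] {U : Subgroup L} {w : L}
    (hbr : ∀ g : L, g ∉ normalizer (U : Set L) → ∃ u ∈ U, (u * w)⁻¹ * g ∈ normalizer (U : Set L))
    (huniq : ∀ u ∈ U, w⁻¹ * u * w ∈ normalizer (U : Set L) → u = 1) (hw : w ∉ normalizer (U : Set L))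
    {X : MulAut L} (hXp : X ^ p = 1) (hXU : ∀ u ∈ U, X u ∈ U) (hpU : ¬ p ∣ Nat.card U) :
    ∃ u ∈ U, (u * w)⁻¹ * X (u * w) ∈ normalizer (U : Set L) := by
  set B := normalizer (U : Set L) with hB
  have hUB : U ≤ B := le_normalizer
  -- `X` maps `U` onto `U`
  have hXU' : ∀ u ∈ U, ∃ u' ∈ U, X u' = u := by
    have h1 : U.map X.toMonoidHom = U := by
      apply Subgroup.eq_of_le_of_card_ge
      · rintro _ ⟨y, hy, rfl⟩
        exact hXU y hy
      · rw [Nat.card_congr (U.equivMapOfInjective _ X.injective).symm.toEquiv]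
    intro u hu
    rw [← h1] at hu
    obtain ⟨y, hy, hyu⟩ := hu
    exact ⟨y, hy, hyu⟩
  have hXB : ∀ b, X b ∈ B → b ∈ B := by
    intro b hb
    rw [hB, mem_normalizer_iff] at hb ⊢
    intro y
    have h2 := hb (X y)
    constructor
    · intro hy
      have h3 := h2.1 (hXU y hy)
      rw [← map_inv, ← map_mul, ← map_mul] at h3
      obtain ⟨y', hy', h4⟩ := hXU' _ h3
      rwa [X.injective h4] at hy'
    · intro hy
      have h3 := hXU _ hy
      rw [map_mul, map_mul, map_inv] at h3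
      obtain ⟨y', hy', h4⟩ := hXU' _ (h2.2 h3)
      rwa [X.injective h4] at hy'
  have hXB' : ∀ b ∈ B, X b ∈ B := by
    intro b hb
    have h1 : B.map X.toMonoidHom = B := by
      symm
      apply Subgroup.eq_of_le_of_card_ge
      · intro y hy
        refine ⟨X⁻¹ y, hXB _ ?_, X.apply_symm_apply y⟩
        rw [MulAut.apply_inv_self]
        exact hy
      · rw [Nat.card_congr (B.equivMapOfInjective _ X.injective).symm.toEquiv]
    rw [← h1]
    exact ⟨b, hb, rfl⟩
  have hnot : ∀ u ∈ U, X (u * w) ∉ B := by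
    intro u hu h1
    have h2 := hXB _ h1
    exact hw ((B.mul_mem_cancel_left (hUB hu)).1 h2)
  choose! f hfU hf using fun u (hu : u ∈ U) => hbr (X (u * w)) (hnot u hu)
  -- iterate
  let F : U → U := fun u => ⟨f u, hfU u u.2⟩
  have hF : ∀ (n : ℕ) (u : U), (((F^[n] u : U) : L) * w)⁻¹ * (X ^ n) (u * w) ∈ B := by
    intro n
    induction n with
    | zero =>
      intro u
      rw [Function.iterate_zero, id_eq, pow_zero, MulAut.one_apply, inv_mul_cancel]
      exact one_mem _
    | succ n ih =>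
      intro u
      rw [Function.iterate_succ_apply', pow_succ', MulAut.mul_apply]
      have h1 := hXB' _ (ih u)
      rw [map_mul, map_inv] at h1
      have h2 := hf (F^[n] u : U) (F^[n] u : U).2
      have h3 : ((F (F^[n] u) : U) : L) = f ((F^[n] u : U) : L) := rfl
      rw [h3]
      have h4 := mul_mem h2 h1
      have h5 : (f ((F^[n] u : U) : L) * w)⁻¹ * X (((F^[n] u : U) : L) * w) *
          ((X (((F^[n] u : U) : L) * w))⁻¹ * X ((X ^ n) (u * w))) =
          (f ((F^[n] u : U) : L) * w)⁻¹ * X ((X ^ n) (u * w)) := by group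
      rwa [h5] at h4
  have hFp : ∀ u : U, F^[p] u = u := by
    intro u
    have h1 := hF p u
    rw [hXp, MulAut.one_apply] at h1
    have h2 : (((F^[p] u : U) : L) * w)⁻¹ * (u * w) = w⁻¹ * (((F^[p] u : U) : L)⁻¹ * u) * w := by group
    rw [h2] at h1
    have h3 := huniq _ (mul_mem (inv_mem (F^[p] u : U).2) u.2) h1
    exact Subtype.ext (inv_mul_eq_one.1 h3)
  obtain ⟨u, hu⟩ := CpAutTwF.Count.exists_fix F hFp hpU
  refine ⟨u, u.2, ?_⟩
  have h1 := hf u u.2
  have h2 : f (u : L) = u := congrArg Subtype.val hu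
  rwa [h2] at h1

/-! ### Hilbert 90 -/

section Frame

variable {L : Type v} [Group L] {F : Type*} [Field F] {h : Fˣ → L} {Φ : (F ≃+* F) → MulAut L} {p : ℕ}

open Finset in
theorem pow_frame (hmul : ∀ a b, h (a * b) = h a * h b) (hΦmul : ∀ σ τ, Φ (σ * τ) = Φ σ * Φ τ) (hΦ1 : Φ 1 = 1)
    (hΦh : ∀ (τ : F ≃+* F) a, Φ τ (h a) = h (Units.mapEquiv τ.toMulEquiv a)) (a : Fˣ) (τ : F ≃+* F) (n : ℕ) :
    (MulAut.conj (h a) * Φ τ) ^ n =
      MulAut.conj (h (∏ i ∈ range n, Units.mapEquiv (τ ^ i).toMulEquiv a)) * Φ (τ ^ n) := by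
  have h1 : h 1 = 1 := by
    have := hmul 1 1
    rw [mul_one] at this
    exact (mul_eq_left.1 this.symm)
  induction n with
  | zero => rw [pow_zero, pow_zero, range_zero, prod_empty, h1, map_one, hΦ1, one_mul]
  | succ n ih =>
    rw [pow_succ, ih, prod_range_succ, hmul, map_mul, pow_succ τ, hΦmul]
    have h2 : Φ (τ ^ n) * MulAut.conj (h a) = MulAut.conj (h (Units.mapEquiv (τ ^ n).toMulEquiv a)) * Φ (τ ^ n) := by
      rw [← hΦh]
      ext y
      simp only [MulAut.mul_apply, MulAut.conj_apply, map_mul, map_inv]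
    calc MulAut.conj (h (∏ i ∈ range n, Units.mapEquiv (τ ^ i).toMulEquiv a)) * Φ (τ ^ n) *
          (MulAut.conj (h a) * Φ τ)
        = MulAut.conj (h (∏ i ∈ range n, Units.mapEquiv (τ ^ i).toMulEquiv a)) *
          (Φ (τ ^ n) * MulAut.conj (h a)) * Φ τ := by group
      _ = _ := by rw [h2]; group

open Finset in
/-- **Hilbert 90 for frame automorphisms.** -/
theorem exists_conj_frame (hmul : ∀ a b, h (a * b) = h a * h b) (hinj : Function.Injective h)
    (hΦmul : ∀ σ τ, Φ (σ * τ) = Φ σ * Φ τ) (hΦ1 : Φ 1 = 1)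
    (hΦh : ∀ (τ : F ≃+* F) a, Φ τ (h a) = h (Units.mapEquiv τ.toMulEquiv a))
    (hout : ∀ (τ : F ≃+* F) (g : L), Φ τ = MulAut.conj g → τ = 1)
    (hcen : ∀ a, (MulAut.conj (h a) : MulAut L) = 1 → h a = 1) (hp : p.Prime) {a : Fˣ} {τ : F ≃+* F}
    (hX : (MulAut.conj (h a) * Φ τ) ^ p = 1) (hτ : τ ≠ 1) :
    orderOf τ = p ∧ ∃ c : Fˣ, MulAut.conj (h a) * Φ τ = MulAut.conj (h c) * Φ τ * (MulAut.conj (h c))⁻¹ := by
  have h1 : h 1 = 1 := by
    have := hmul 1 1
    rw [mul_one] at this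
    exact (mul_eq_left.1 this.symm)
  have hinv : ∀ a, h a⁻¹ = (h a)⁻¹ := by
    intro a
    rw [eq_inv_iff_mul_eq_one, ← hmul, inv_mul_cancel, h1]
  rw [pow_frame hmul hΦmul hΦ1 hΦh] at hX
  set N : Fˣ := ∏ i ∈ range p, Units.mapEquiv (τ ^ i).toMulEquiv a with hN
  have hτp : τ ^ p = 1 := by
    apply hout _ (h N)⁻¹
    rw [map_inv, eq_inv_iff_mul_eq_one]
    exact mul_eq_one_comm.1 hX
  have ho : orderOf τ = p := by
    rcases (Nat.dvd_prime hp).1 (orderOf_dvd_of_pow_eq_one hτp) with h2 | h2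
    · exact absurd (orderOf_eq_one_iff.1 h2) hτ
    · exact h2
  refine ⟨ho, ?_⟩
  rw [hτp, hΦ1, mul_one] at hX
  have hN1 : N = 1 := hinj ((hcen _ hX).trans h1.symm)
  obtain ⟨e, he0, he⟩ := CpAut.Descent.hilbert90 ho hp.pos (l := (a : F)) (by
    have h2 := congrArg Units.val hN1
    rw [hN, Units.coe_prod, Units.val_one] at h2
    exact h2)
  refine ⟨Units.mk0 e he0, ?_⟩
  have h3 : a = Units.mk0 e he0 * (Units.mapEquiv τ.toMulEquiv (Units.mk0 e he0))⁻¹ := by
    rw [eq_mul_inv_iff_mul_eq]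
    exact Units.ext he
  have h4 : Φ τ * MulAut.conj (h (Units.mk0 e he0)) =
      MulAut.conj (h (Units.mapEquiv τ.toMulEquiv (Units.mk0 e he0))) * Φ τ := by
    rw [← hΦh]
    ext y
    simp only [MulAut.mul_apply, MulAut.conj_apply, map_mul, map_inv]
  rw [eq_mul_inv_iff_mul_eq, mul_assoc, h4, ← mul_assoc, ← map_mul, ← hmul, eq_mul_inv_iff_mul_eq.1 h3]

end Frame

/-! ### Counting fixed points -/

theorem card_fixed_of {L V H : Type*} [Finite V] [Finite H] (f1 : V × H → L) (f2 : V × H × V → L)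
    (hb : Function.Bijective (Sum.elim f1 f2)) (φ : L → L) (α : V → V) (β : H → H)
    (h1 : ∀ v a, φ (f1 (v, a)) = f1 (α v, β a)) (h2 : ∀ v a v', φ (f2 (v, a, v')) = f2 (α v, β a, α v')) :
    Nat.card {g : L // φ g = g} = Nat.card {v // α v = v} * Nat.card {a // β a = a} * (1 + Nat.card {v // α v = v}) := by
  let f : ({v // α v = v} × {a // β a = a}) ⊕ ({v // α v = v} × {a // β a = a} × {v // α v = v}) → {g : L // φ g = g} :=
    fun z => match z with
      | Sum.inl va => ⟨f1 (va.1, va.2), by rw [h1, va.1.2, va.2.2]⟩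
      | Sum.inr va => ⟨f2 (va.1, va.2.1, va.2.2), by rw [h2, va.1.2, va.2.1.2, va.2.2.2]⟩
  have hf : Function.Bijective f := by
    constructor
    · rintro (⟨⟨v, hv⟩, ⟨a, ha⟩⟩ | ⟨⟨v, hv⟩, ⟨a, ha⟩, ⟨v', hv'⟩⟩) (⟨⟨w, hw⟩, ⟨b, hb'⟩⟩ | ⟨⟨w, hw⟩, ⟨b, hb'⟩, ⟨w', hw'⟩⟩) hvw
      · have h3 : Sum.elim f1 f2 (Sum.inl (v, a)) = Sum.elim f1 f2 (Sum.inl (w, b)) := congrArg Subtype.val hvw
        have h4 := Sum.inl.inj (hb.1 h3)
        obtain ⟨rfl, rfl⟩ := Prod.mk.inj h4
        rfl
      · have h3 : Sum.elim f1 f2 (Sum.inl (v, a)) = Sum.elim f1 f2 (Sum.inr (w, b, w')) := congrArg Subtype.val hvw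
        exact absurd (hb.1 h3) Sum.inl_ne_inr
      · have h3 : Sum.elim f1 f2 (Sum.inr (v, a, v')) = Sum.elim f1 f2 (Sum.inl (w, b)) := congrArg Subtype.val hvw
        exact absurd (hb.1 h3) Sum.inr_ne_inl
      · have h3 : Sum.elim f1 f2 (Sum.inr (v, a, v')) = Sum.elim f1 f2 (Sum.inr (w, b, w')) := congrArg Subtype.val hvw
        have h4 := Sum.inr.inj (hb.1 h3)
        obtain ⟨rfl, h5⟩ := Prod.mk.inj h4
        obtain ⟨rfl, rfl⟩ := Prod.mk.inj h5
        rfl
    · rintro ⟨g, hg⟩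
      obtain ⟨z, rfl⟩ := hb.2 g
      rcases z with ⟨v, a⟩ | ⟨v, a, v'⟩
      · have h3 : Sum.elim f1 f2 (Sum.inl (α v, β a)) = Sum.elim f1 f2 (Sum.inl (v, a)) := (h1 v a).symm.trans hg
        obtain ⟨h4, h5⟩ := Prod.mk.inj (Sum.inl.inj (hb.1 h3))
        exact ⟨Sum.inl (⟨v, h4⟩, ⟨a, h5⟩), rfl⟩
      · have h3 : Sum.elim f1 f2 (Sum.inr (α v, β a, α v')) = Sum.elim f1 f2 (Sum.inr (v, a, v')) :=
          (h2 v a v').symm.trans hg
        obtain ⟨h4, h5⟩ := Prod.mk.inj (Sum.inr.inj (hb.1 h3))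
        obtain ⟨h6, h7⟩ := Prod.mk.inj h5
        exact ⟨Sum.inr (⟨v, h4⟩, ⟨a, h6⟩, ⟨v', h7⟩), rfl⟩
  rw [← Nat.card_congr (Equiv.ofBijective f hf), Nat.card_sum, Nat.card_prod, Nat.card_prod, Nat.card_prod]
  ring

theorem card_of_nf {L V H : Type*} [Finite V] [Finite H] (f1 : V × H → L) (f2 : V × H × V → L)
    (hb : Function.Bijective (Sum.elim f1 f2)) : Nat.card L = Nat.card V * Nat.card H * (1 + Nat.card V) := by
  rw [← Nat.card_congr (Equiv.ofBijective _ hb), Nat.card_sum, Nat.card_prod, Nat.card_prod, Nat.card_prod]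
  ring

theorem card_prod_fixed {A B : Type*} (f : A → A) (g : B → B) :
    Nat.card {v : A × B // (f v.1, g v.2) = v} = Nat.card {a // f a = a} * Nat.card {b // g b = b} := by
  rw [← Nat.card_prod]
  exact Nat.card_congr
    { toFun := fun v => (⟨v.1.1, congrArg Prod.fst v.2⟩, ⟨v.1.2, congrArg Prod.snd v.2⟩)
      invFun := fun v => ⟨(v.1, v.2), by rw [v.1.2, v.2.2]⟩
      left_inv := fun _ => rfl
      right_inv := fun _ => rfl }

/-- The fixed points of a field automorphism on the units. -/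
theorem card_units_fixed {F : Type*} [Field F] [Finite F] (τ : F ≃+* F) :
    Nat.card {a : Fˣ // Units.mapEquiv τ.toMulEquiv a = a} =
      Nat.card ↥(RingHom.eqLocusField (τ : F →+* F) (RingHom.id F)) - 1 := by
  set K := RingHom.eqLocusField (τ : F →+* F) (RingHom.id F) with hK
  have hmem : ∀ a : F, a ∈ K ↔ τ a = a := fun a => Iff.rfl
  rw [← Nat.card_units]
  refine Nat.card_congr
    { toFun := fun a => Units.mk0 ⟨(a.1 : F), (hmem _).2 (congrArg Units.val a.2)⟩ (by
        intro h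
        exact a.1.ne_zero (congrArg Subtype.val h))
      invFun := fun b => ⟨Units.mk0 ((b : K) : F) (by
        intro h
        exact b.ne_zero (Subtype.ext h)), Units.ext ((hmem _).1 (b : K).2)⟩
      left_inv := fun a => by
        apply Subtype.ext
        apply Units.ext
        rfl
      right_inv := fun b => by
        apply Units.ext
        rfl }

theorem card_fixed_field {F : Type*} [Field F] (τ : F ≃+* F) :
    Nat.card {a : F // τ a = a} = Nat.card ↥(RingHom.eqLocusField (τ : F →+* F) (RingHom.id F)) := rfl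

/-! ### The arithmetic -/

theorem lt_factorization {p c d : ℕ} (hp : p.Prime) (hp2 : p ≠ 2) (hc : 2 ≤ c) (hpc : ¬ p ∣ c) (hd : 1 ≤ d)
    (hdvd : p ∣ (c ^ p) ^ d * (c ^ p - 1) * (1 + (c ^ p) ^ d)) :
    (c ^ d * (c - 1) * (1 + c ^ d)).factorization p <
      ((c ^ p) ^ d * (c ^ p - 1) * (1 + (c ^ p) ^ d)).factorization p := by
  have : Fact p.Prime := ⟨hp⟩
  have hfer : c ^ p ≡ c [MOD p] := (ZMod.natCast_eq_natCast_iff _ _ _).1 (by
    rw [Nat.cast_pow, ZMod.pow_card])
  have hc1 : 1 < c ^ p := Nat.one_lt_pow hp.ne_zero hc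
  have hcd : 0 < c ^ d := Nat.pow_pos (by omega)
  have hcpd : 0 < (c ^ p) ^ d := Nat.pow_pos (by omega)
  have hpcp : ∀ k, ¬ p ∣ c ^ k := fun k h => hpc (hp.dvd_of_dvd_pow h)
  have hpcpk : ¬ p ∣ (c ^ p) ^ d := fun h => hpcp _ (hp.dvd_of_dvd_pow h)
  have hodd : Odd p := hp.odd_of_ne_two hp2
  have hdv1 : p ∣ c ^ p - 1 ↔ p ∣ c - 1 := by
    rw [← Nat.modEq_iff_dvd' (by omega), ← Nat.modEq_iff_dvd' (by omega)]
    exact ⟨fun h => h.trans hfer, fun h => h.trans hfer.symm⟩
  have hdv2 : p ∣ 1 + (c ^ p) ^ d ↔ p ∣ 1 + c ^ d := by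
    have h1 : 1 + (c ^ p) ^ d ≡ 1 + c ^ d [MOD p] := Nat.ModEq.add_left 1 (hfer.pow d)
    exact h1.dvd_iff dvd_rfl
  have hn1 : c ^ p - 1 ≠ 0 := by omega
  have hn2 : c - 1 ≠ 0 := by omega
  rw [Nat.factorization_mul (mul_ne_zero hcd.ne' hn2) (by omega), Nat.factorization_mul hcd.ne' hn2,
    Nat.factorization_mul (mul_ne_zero hcpd.ne' hn1) (by omega), Nat.factorization_mul hcpd.ne' hn1]
  simp only [Finsupp.add_apply]
  rw [Nat.factorization_eq_zero_of_not_dvd (hpcp d), Nat.factorization_eq_zero_of_not_dvd hpcpk, zero_add, zero_add]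
  have h3 : ∀ {n : ℕ}, n.factorization p = padicValNat p n := fun {n} => Nat.factorization_def n hp
  by_cases hA : p ∣ c - 1
  · -- `v (c ^ p - 1) = v (c - 1) + 1`
    have h4 : padicValNat p (c ^ p - 1) = padicValNat p (c - 1) + 1 := by
      have := padicValNat.pow_sub_pow (p := p) (x := c) (y := 1) hodd (by omega) hA hpc (n := p) hp.ne_zero
      rw [one_pow, padicValNat_self] at this
      exact this
    have hnB : ¬ p ∣ 1 + c ^ d := by
      intro h5
      have h6 : c ≡ 1 [MOD p] := ((Nat.modEq_iff_dvd' (by omega)).2 hA).symm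
      have h7 : 1 + c ^ d ≡ 1 + 1 ^ d [MOD p] := Nat.ModEq.add_left 1 (h6.pow d)
      have h8 := (h7.dvd_iff dvd_rfl).1 h5
      rw [one_pow] at h8
      have := (Nat.dvd_prime Nat.prime_two).1 h8
      rcases this with h9 | h9
      · exact hp.one_lt.ne' h9
      · exact hp2 h9
    rw [Nat.factorization_eq_zero_of_not_dvd hnB, Nat.factorization_eq_zero_of_not_dvd (fun h => hnB (hdv2.1 h)),
      h3, h3, h4]
    omega
  · have hB : p ∣ 1 + c ^ d := by
      rcases hp.dvd_mul.1 hdvd with h5 | h5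
      · rcases hp.dvd_mul.1 h5 with h6 | h6
        · exact absurd h6 hpcpk
        · exact absurd (hdv1.1 h6) hA
      · exact hdv2.1 h5
    have h4 : padicValNat p (1 + (c ^ p) ^ d) = padicValNat p (1 + c ^ d) + 1 := by
      have h5 := padicValNat.pow_add_pow (p := p) (x := c ^ d) (y := 1) hodd (by rwa [add_comm] at hB) (hpcp d)
        (n := p) hodd
      rw [one_pow, padicValNat_self, ← pow_mul, mul_comm d p, pow_mul] at h5
      rw [add_comm, h5, add_comm (c ^ d) 1]
    rw [Nat.factorization_eq_zero_of_not_dvd hA, Nat.factorization_eq_zero_of_not_dvd (fun h => hA (hdv1.1 h)),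
      h3, h3, h4]
    omega

end Cfsg.Agent.H628.ZRankOne
end

-- part: H628/ZRowRee
section
set_option linter.all false
open scoped Cfsg.Agent.FastGrp

/-!
# The `Z*_p` row of the small Ree groups (helper628)

`Row p L` for `IsoRee L` and every odd prime `p`.

* inner case, `p = 3`: `x` lies in the centre of a Sylow 3-subgroup `U` and is centralised by the torus;
* inner case, `p > 3`: the Sylow `p`-subgroups are cyclic (T3);
* outer case, `p = 3`: the induced automorphism fixes a Sylow 3-subgroup elementwise, hence is inner;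
* outer case, `p > 3`: it is conjugate to a field automorphism, whose number of fixed points has too small a `p`-part.
-/

set_option autoImplicit false

namespace Cfsg.Agent.H628.ZRowRee

open Subgroup Cfsg Cfsg.Agent.H256.ZBasic Cfsg.Agent.H256.ZRed Cfsg.Agent.H256.ZTool Cfsg.Agent.H28.ZIso
  Cfsg.Agent.H628.ZRankOne Cfsg.Agent.LieRecognition.ReeAbs Cfsg.Agent.LieRecognition.ReeSylowThree
  Cfsg.Agent.LieRecognition.ReeSplit Cfsg.Agent.LieRecognition Cfsg.Agent.H71

universe u v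

section abs

variable {K : Type*} [Field K] {L : Type v} [Group L] {m : ℕ} {U : K → K → K → L} {h : Kˣ → L} {n : L}

theorem normalizer_uSub (D : Data m U h n) : normalizer (uSub D : Set L) = bSub D := by
  ext g
  constructor
  · intro hg
    refine mem_bSub_of_inv_conj_mem D (x := U 1 0 0) ⟨_, _, _, rfl⟩ ?_ ?_
    · rw [← D.U_zero]
      intro h1
      exact one_ne_zero (U_injective D h1).1
    · have h1 := (mem_normalizer_iff.1 (inv_mem hg) (U 1 0 0)).1 ⟨_, _, _, rfl⟩
      rwa [inv_inv] at h1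
  · intro hg
    rw [mem_normalizer_iff]
    intro y
    constructor
    · intro hy
      exact conj_mem_uSub D hg hy
    · intro hy
      have h1 := inv_conj_mem_uSub D hg hy
      have h2 : g⁻¹ * (g * y * g⁻¹) * g = y := by group
      rwa [h2] at h1

theorem n_not_mem (D : Data m U h n) : n ∉ bSub D := by
  rintro ⟨t, u, v, a, h4⟩
  refine D.ne t u v a 0 0 0 1 0 0 0 ?_
  rw [← h4, D.U_zero, D.h_one, mul_one, one_mul]
  exact (one_mul n).symm

theorem first_coord (D : Data m U h n) (t u v : K) (a : Kˣ) (s : K) :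
    ∃ y z, (U t u v * h a) * U s 0 0 * (U t u v * h a)⁻¹ = U ((a : K) ^ (3 ^ (m + 1)) * s) y z := by
  have h1 : (U t u v * h a) * U s 0 0 * (U t u v * h a)⁻¹ = U t u v * (h a * U s 0 0) * (h a)⁻¹ * (U t u v)⁻¹ := by
    group
  rw [h1, D.h_U]
  obtain ⟨y, hy⟩ : ∃ y, y = (a : K) ^ (3 ^ (m + 1)) * s := ⟨_, rfl⟩
  rw [← hy, mul_zero, mul_zero]
  have h2 : U t u v * (U y 0 0 * h a) * (h a)⁻¹ * (U t u v)⁻¹ = U t u v * U y 0 0 * (U t u v)⁻¹ := by group
  rw [h2]
  have h3 : ∃ b c, U t u v * U y 0 0 = U y b c * U t u v := by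
    refine ⟨u - t * y ^ (3 ^ (m + 1)) - u + y * t ^ (3 ^ (m + 1)),
      v + 0 - u * y - t ^ 2 * y ^ (3 ^ (m + 1)) + t * y * y ^ (3 ^ (m + 1)) - v +
        (u - t * y ^ (3 ^ (m + 1)) - u + y * t ^ (3 ^ (m + 1))) * t + y ^ 2 * t ^ (3 ^ (m + 1)) -
        y * t * t ^ (3 ^ (m + 1)), ?_⟩
    rw [D.U_mul, D.U_mul]
    congr 1 <;> ring
  obtain ⟨b, c, h3⟩ := h3
  rw [h3, mul_inv_cancel_right]
  exact ⟨b, c, rfl⟩

variable [Fintype K]

/-- A frame automorphism which fixes all `U s 0 0` up to conjugation by `U` is inner; field automorphisms which are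
inner are trivial. -/
theorem eq_one_of_conj (hK : Fintype.card K = 3 ^ (2 * m + 1)) {D : Data m U h n} {Φ : (K ≃+* K) → MulAut L}
    (F : ReeOut.Fld D Φ) {τ : K ≃+* K} {g : L} (hg : ∀ s, Φ τ (U s 0 0) = g * U s 0 0 * g⁻¹) : τ = 1 := by
  have h1 := hg 1
  rw [F.onU, map_one, map_zero] at h1
  have hgB : g ∈ bSub D := by
    refine mem_bSub_of_conj D (x := U 1 0 0) (y := U 1 0 0) ⟨_, _, _, rfl⟩ ⟨_, _, _, rfl⟩ ?_ ?_
    · rw [← D.U_zero]
      intro h1
      exact one_ne_zero (U_injective D h1).1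
    · rw [eq_mul_inv_iff_mul_eq] at h1
      exact h1
  obtain ⟨t, u, v, a, rfl⟩ := hgB
  have h2 : ∀ s, τ s = (a : K) ^ (3 ^ (m + 1)) * s := by
    intro s
    obtain ⟨y, z, h3⟩ := first_coord D t u v a s
    have h4 := hg s
    rw [F.onU, h3] at h4
    exact (U_injective D h4).1
  have h3 := h2 1
  rw [map_one, mul_one] at h3
  ext s
  rw [h2, ← h3, one_mul]
  rfl

/-- The outer case for `p = 3`: an automorphism fixing `U` elementwise is inner. -/
theorem inner_of_fix (hK : Fintype.card K = 3 ^ (2 * m + 1)) {D : Data m U h n} {Φ : (K ≃+* K) → MulAut L}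
    (F : ReeOut.Fld D Φ) (hΦ1 : Φ 1 = 1) {τ : K ≃+* K} {g : L}
    (hg : ∀ s, (MulAut.conj g * Φ τ) (U s 0 0) = U s 0 0) : MulAut.conj g * Φ τ = MulAut.conj g := by
  have h1 : τ = 1 := by
    refine eq_one_of_conj hK F (g := g⁻¹) fun s => ?_
    have h2 := hg s
    rw [MulAut.mul_apply, MulAut.conj_apply] at h2
    calc Φ τ (U s 0 0) = g⁻¹ * (g * Φ τ (U s 0 0) * g⁻¹) * g := by group
      _ = g⁻¹ * U s 0 0 * (g⁻¹)⁻¹ := by rw [h2, inv_inv]
  rw [h1, hΦ1, mul_one]

/-- A frame automorphism. -/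
theorem mem_Fr_of {D : Data m U h n} [Finite L] {X : MulAut L} (h1 : ∀ x ∈ uSub D, X x ∈ uSub D)
    (h2 : n * X n ∈ bSub D) : X ∈ ReeOut.Fr D := by
  have h3 : ∀ x, X x ∈ uSub D ↔ x ∈ uSub D := by
    intro x
    refine ⟨fun hx => ?_, h1 x⟩
    have h4 : (uSub D).map X.toMonoidHom = uSub D := by
      apply Subgroup.eq_of_le_of_card_ge
      · rintro _ ⟨y, hy, rfl⟩
        exact h1 y hy
      · rw [Nat.card_congr ((uSub D).equivMapOfInjective _ X.injective).symm.toEquiv]
    rw [← h4] at hx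
    obtain ⟨y, hy, hyx⟩ := hx
    rwa [X.injective hyx] at hy
  rw [ReeOut.mem_Fr]
  refine ⟨h3, fun x => ?_⟩
  have h4 : X n * X n = 1 := by rw [← map_mul, D.n_n, map_one]
  have h5 : n * X x * n = (n * X n) * X (n * x * n) * (n * X n)⁻¹ := by
    have h6 : (n * X n)⁻¹ = X n * n := by
      rw [mul_inv_rev, D.n_inv, inv_eq_of_mul_eq_one_right h4]
    rw [h6, map_mul, map_mul]
    calc n * X x * n = n * 1 * X x * 1 * n := by group
      _ = n * (X n * X n) * X x * (X n * X n) * n := by rw [h4]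
      _ = _ := by group
  rw [h5, ← h3 (n * x * n)]
  constructor
  · intro h6
    have h7 := inv_conj_mem_uSub D h2 h6
    have h8 : (n * X n)⁻¹ * ((n * X n) * X (n * x * n) * (n * X n)⁻¹) * (n * X n) = X (n * x * n) := by group
    rwa [h8] at h7
  · intro h6
    exact conj_mem_uSub D h2 h6

/-- The number of fixed points of a field automorphism. -/
theorem card_fixed {D : Data m U h n} {Φ : (K ≃+* K) → MulAut L} (F : ReeOut.Fld D Φ) (τ : K ≃+* K) :
    Nat.card (fixedSub (Φ τ)) =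
      (Nat.card ↥(RingHom.eqLocusField (τ : K →+* K) (RingHom.id K))) ^ 3 *
        (Nat.card ↥(RingHom.eqLocusField (τ : K →+* K) (RingHom.id K)) - 1) *
        (1 + (Nat.card ↥(RingHom.eqLocusField (τ : K →+* K) (RingHom.id K))) ^ 3) := by
  have hpar : Sum.elim (fun x : (K × K × K) × Kˣ => U x.1.1 x.1.2.1 x.1.2.2 * h x.2)
      (fun x : (K × K × K) × Kˣ × (K × K × K) => U x.1.1 x.1.2.1 x.1.2.2 * h x.2.1 * n * U x.2.2.1 x.2.2.2.1 x.2.2.2.2) =
      param U h n := by
    funext x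
    rcases x with x | x <;> rfl
  have h1 := card_fixed_of (fun x : (K × K × K) × Kˣ => U x.1.1 x.1.2.1 x.1.2.2 * h x.2)
    (fun x : (K × K × K) × Kˣ × (K × K × K) => U x.1.1 x.1.2.1 x.1.2.2 * h x.2.1 * n * U x.2.2.1 x.2.2.2.1 x.2.2.2.2)
    (by rw [hpar]; exact param_bijective D)
    (Φ τ) (fun v : K × K × K => (τ v.1, τ v.2.1, τ v.2.2)) (fun k : Kˣ => Units.mapEquiv τ.toMulEquiv k)
    (by
      rintro ⟨a, b, c⟩ k
      change Φ τ (U a b c * h k) = U _ _ _ * h _
      rw [map_mul, F.onU, F.onH])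
    (by
      rintro ⟨a, b, c⟩ k ⟨a', b', c'⟩
      change Φ τ (U a b c * h k * n * U a' b' c') = U _ _ _ * h _ * n * U _ _ _
      rw [map_mul, map_mul, map_mul, F.onU, F.onU, F.onH, F.onN])
  have h2 : Nat.card {v : K × K × K // (τ v.1, τ v.2.1, τ v.2.2) = v} =
      (Nat.card ↥(RingHom.eqLocusField (τ : K →+* K) (RingHom.id K))) ^ 3 := by
    have h3 := card_prod_fixed (τ : K → K) (fun v : K × K => (τ v.1, τ v.2))
    have h4 := card_prod_fixed (τ : K → K) (τ : K → K)
    rw [h4, card_fixed_field] at h3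
    have h5 : Nat.card {v : K × K × K // (τ v.1, τ v.2.1, τ v.2.2) = v} =
      Nat.card {v : K × K × K // (τ v.1, (fun v : K × K => (τ v.1, τ v.2)) v.2) = v} := rfl
    rw [h5, h3]
    ring
  rw [h2, card_units_fixed] at h1
  exact h1

theorem row_abs {p : ℕ} [hp : Fact p.Prime] (hp2 : p ≠ 2) (hm : 1 ≤ m) (hK : Fintype.card K = 3 ^ (2 * m + 1))
    (D : Data m U h n) {Φ : (K ≃+* K) → MulAut L} (F : ReeOut.Fld D Φ) (hΦ1 : Φ 1 = 1)
    (hΦmul : ∀ σ τ, Φ (σ * τ) = Φ σ * Φ τ)
    (hcyc : ∀ (q : ℕ) [Fact q.Prime], 3 < q → ∀ P : Sylow q L, IsCyclic (P : Subgroup L)) : Row.{u} p L := by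
  have hfin : Finite L := ReeSylowThree.finite D
  have h3f : Fact (Nat.Prime 3) := ⟨Nat.prime_three⟩
  have hp3 : p = 3 ∨ 3 < p := by
    have h1 := hp.out.two_le
    rcases Nat.lt_or_ge 3 p with h2 | h2
    · exact Or.inr h2
    · left
      omega
  intro G _ _ x hmin e
  by_cases hx : x ∈ commutator G
  · -- inner
    have ht := commutator_eq_top hmin hx
    let f : G ≃* L := (Subgroup.topEquiv.symm.trans (MulEquiv.subgroupCongr ht.symm)).trans e
    have h' := MinCex.map hmin f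
    rcases hp3 with rfl | hp3
    · -- `p = 3`
      obtain ⟨S, hS⟩ := ReeOut.exists_sylow hK D
      have hxk : IsPGroup 3 (zpowers (f x)) :=
        IsPGroup.of_card (n := 1) (by rw [Nat.card_zpowers, h'.ord, pow_one])
      obtain ⟨R, hR⟩ := hxk.exists_le_sylow
      obtain ⟨g, hg⟩ := MulAction.exists_smul_eq L S R
      have h1 : g⁻¹ * f x * g ∈ (S : Subgroup L) := conj_mem_sylow hg (hR (mem_zpowers _))
      have hiso : IsIsolated (g⁻¹ * f x * g) := by
        have := isolated_conj h'.iso g⁻¹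
        rwa [inv_inv] at this
      have hord : orderOf (g⁻¹ * f x * g) = 3 := by
        have := orderOf_conj' g⁻¹ (f x)
        rw [inv_inv] at this
        rw [this, h'.ord]
      rw [hS] at h1
      obtain ⟨t, u, v, hy⟩ := h1
      rw [hy] at hiso hord
      have hpU : IsPGroup 3 (uSub D) := by
        rw [← hS]
        exact S.isPGroup'
      have hne : ¬ (t = 0 ∧ u = 0 ∧ v = 0) := by
        rintro ⟨rfl, rfl, rfl⟩
        rw [D.U_zero, orderOf_one] at hord
        omega
      have h2 : ∀ a : Kˣ, a = 1 ∨ a = -1 := by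
        intro a
        have h3 := eq_of_mem hiso hpU ⟨t, u, v, rfl⟩ (g := h a) (h_conj_mem D a ⟨t, u, v, rfl⟩)
        rw [ReeOut.h_U_inv D] at h3
        obtain ⟨h4, h5, h6⟩ := U_injective D h3
        exact ReeThree.unit_of_fix hK a t u v hne h4 h5 h6
      -- too few units
      have h3 : Nat.card Kˣ ≤ 2 := by
        have h4 : Function.Surjective (fun i : Fin 2 => if i = 0 then (1 : Kˣ) else -1) := by
          intro a
          rcases h2 a with rfl | rfl
          · exact ⟨0, rfl⟩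
          · exact ⟨1, rfl⟩
        have h5 := Nat.card_le_card_of_surjective _ h4
        rwa [Nat.card_eq_fintype_card (α := Fin 2), Fintype.card_fin] at h5
      rw [Nat.card_units, Nat.card_eq_fintype_card, hK] at h3
      have h4 : 3 ^ 3 ≤ 3 ^ (2 * m + 1) := Nat.pow_le_pow_right (by norm_num) (by omega)
      omega
    · -- `p > 3`
      have htL : commutator L = ⊤ := by
        have h1 : (commutator G).map f.toMonoidHom = commutator L := by
          rw [_root_.commutator_def, map_commutator, ← MonoidHom.range_eq_map, MonoidHom.range_eq_top.2 f.surjective]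
          rfl
        rw [← h1, ht, ← MonoidHom.range_eq_map, MonoidHom.range_eq_top.2 f.surjective]
      obtain ⟨P⟩ : Nonempty (Sylow p L) := inferInstance
      refine not_comm_sylow h'.iso h'.ord htL P fun a ha b hb => ?_
      have hc : IsCyclic (P : Subgroup L) := hcyc p hp3 P
      obtain ⟨z, hz⟩ := hc.exists_generator
      have h1 : (⟨a, ha⟩ : (P : Subgroup L)) * ⟨b, hb⟩ = ⟨b, hb⟩ * ⟨a, ha⟩ := by
        obtain ⟨i, hi⟩ := mem_zpowers_iff.1 (hz ⟨a, ha⟩)
        obtain ⟨j, hj⟩ := mem_zpowers_iff.1 (hz ⟨b, hb⟩)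
        rw [← hi, ← hj]
        exact (Commute.refl z).zpow_zpow i j
      exact congrArg Subtype.val h1
  · -- outer
    set X := MulAut.congr e (MulAut.conjNormal x) with hXdef
    have hXp : X ^ p = 1 := by
      rw [hXdef, ← map_pow, ← map_pow, ← hmin.ord, pow_orderOf_eq_one, map_one, map_one]
    -- the form of automorphisms
    have hform : ∀ α : MulAut L, ∃ (g : L) (τ : K ≃+* K), α = MulAut.conj g * Φ τ := by
      intro α
      obtain ⟨k, hk⟩ := ReeOut.exists_frame hK D α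
      obtain ⟨a, τ, h1⟩ := ReeOut.exists_of_frame hm hK F hk
      refine ⟨k⁻¹ * h a, τ, ?_⟩
      rw [map_mul, map_inv, mul_assoc, ← h1, inv_mul_cancel_left]
    have hcase : p = 3 ∨ 3 < p := hp3
    rcases hcase with rfl | hp3
    · -- `p = 3`
      obtain ⟨P, hP⟩ := exists_sylow_fixed hmin e
      rw [← hXdef] at hP
      obtain ⟨y, hy⟩ := ReeOut.exists_conj_of_sylow hK D P
      set X₁ : MulAut L := (MulAut.conj y)⁻¹ * X * MulAut.conj y with hX₁
      have hX₁f : ∀ z ∈ uSub D, X₁ z = z := by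
        intro z hz
        have h1 : MulAut.conj y z ∈ (P : Subgroup L) := by
          rw [hy]
          exact ⟨z, hz, rfl⟩
        have h2 := hP _ h1
        rw [hX₁, MulAut.mul_apply, MulAut.mul_apply, h2, MulAut.inv_apply_self]
      obtain ⟨g, τ, hg⟩ := hform X₁
      have h1 := inner_of_fix hK F hΦ1 (τ := τ) (g := g) fun s => by
        rw [← hg]
        exact hX₁f _ ⟨_, _, _, rfl⟩
      refine hx (mem_of_inner hmin e ?_)
      rw [← hXdef]
      refine ⟨y * g * y⁻¹, ?_⟩
      have h2 : X = MulAut.conj y * X₁ * (MulAut.conj y)⁻¹ := by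
        rw [hX₁]
        group
      rw [h2, hg, h1]
      simp only [map_mul, map_inv]
    · obtain ⟨g, σ, hg⟩ := hform X
      have hs3 : orderOf (U 0 0 1) = 3 := by
        rw [orderOf_eq_prime_iff]
        refine ⟨ReeSplit.U_zero_zero_cube D hK 1, ?_⟩
        rw [← D.U_zero]
        intro h1
        exact one_ne_zero (U_injective D h1).2.2
      obtain ⟨S, hS⟩ := exists_norm_sylow hmin hx e (r := 3) (by omega) (g := g) hs3 (by
        rw [← hXdef, hg, MulAut.mul_apply, MulAut.conj_apply, F.onU, map_zero, map_one])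
      rw [← hXdef] at hS
      obtain ⟨y, hy⟩ := ReeOut.exists_conj_of_sylow hK D S
      set X₁ : MulAut L := (MulAut.conj y)⁻¹ * X * MulAut.conj y with hX₁
      have hX₁T : ∀ z ∈ uSub D, X₁ z ∈ uSub D := by
        intro z hz
        have h1 : MulAut.conj y z ∈ (S : Subgroup L) := by
          rw [hy]
          exact ⟨z, hz, rfl⟩
        have h2 := hS _ h1
        rw [hy] at h2
        obtain ⟨w, hw, hwz⟩ := h2
        have h3 : MulAut.conj y w = X (MulAut.conj y z) := hwz
        rw [hX₁, MulAut.mul_apply, MulAut.mul_apply, ← h3, MulAut.inv_apply_self]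
        exact hw
      have hX₁p : X₁ ^ p = 1 := by
        have h1 : X₁ = (MulAut.conj y)⁻¹ * X * ((MulAut.conj y)⁻¹)⁻¹ := by rw [inv_inv]
        rw [h1, conj_pow, hXp, mul_one, mul_inv_cancel]
      have hpT : ¬ p ∣ Nat.card (uSub D) := by
        intro h1
        rw [card_uSub, hK, ← pow_mul] at h1
        have := (Nat.prime_dvd_prime_iff_eq hp.out Nat.prime_three).1 (hp.out.dvd_of_dvd_pow h1)
        omega
      obtain ⟨u, huT, hu⟩ := exists_opp (U := uSub D) (w := n)
        (by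
          intro g hg
          rw [normalizer_uSub] at hg ⊢
          rcases D.bruhat g with h1 | ⟨t, u, v, a, t', u', v', h1⟩
          · exact absurd h1 hg
          · refine ⟨U t u v, ⟨_, _, _, rfl⟩, ?_⟩
            have h2 : (U t u v * n)⁻¹ * g = h a⁻¹ * U t' u' v' := by
              rw [h1, mul_inv_rev, D.n_inv]
              calc n * (U t u v)⁻¹ * (U t u v * h a * n * U t' u' v') = (n * h a) * n * U t' u' v' := by group
                _ = h a⁻¹ * (n * n) * U t' u' v' := by rw [D.n_h]; group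
                _ = _ := by rw [D.n_n, mul_one]
            rw [h2]
            exact mul_mem (h_mem_bSub D _) (uSub_le_bSub D ⟨_, _, _, rfl⟩))
        (by
          rintro u hu h1
          rw [normalizer_uSub, D.n_inv] at h1
          obtain ⟨a, ha⟩ := ReeOut.mem_hSub_of D (uSub_le_bSub D hu) h1
          obtain ⟨t, w, v, htu⟩ := hu
          have h2 : U t w v * h 1 = U 0 0 0 * h a := by
            rw [D.h_one, mul_one, D.U_zero, one_mul, ← ha, htu]
          obtain ⟨rfl, rfl, rfl, -⟩ := D.inj₁ _ _ _ _ _ _ _ _ h2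
          rw [htu, D.U_zero])
        (by rw [normalizer_uSub]; exact n_not_mem D) hX₁p hX₁T hpT
      set X₂ : MulAut L := MulAut.conj u⁻¹ * X₁ * (MulAut.conj u⁻¹)⁻¹ with hX₂
      have hX₂a : ∀ z, X₂ z = u⁻¹ * X₁ u * X₁ z * (u⁻¹ * X₁ u)⁻¹ := by
        intro z
        rw [hX₂, MulAut.mul_apply, MulAut.mul_apply, ← map_inv, inv_inv, MulAut.conj_apply, MulAut.conj_apply, map_mul,
          map_mul, map_inv]
        group
      have hfr : X₂ ∈ ReeOut.Fr D := by
        refine mem_Fr_of ?_ ?_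
        · intro z hz
          rw [hX₂a]
          have h1 : u⁻¹ * X₁ u ∈ uSub D := mul_mem (inv_mem huT) (hX₁T u huT)
          exact mul_mem (mul_mem h1 (hX₁T z hz)) (inv_mem h1)
        · rw [hX₂a]
          rw [normalizer_uSub] at hu
          have h1 : (u⁻¹ * X₁ u)⁻¹ ∈ bSub D :=
            uSub_le_bSub D (inv_mem (mul_mem (inv_mem huT) (hX₁T u huT)))
          have h2 := mul_mem hu h1
          rw [mul_inv_rev, D.n_inv, map_mul] at h2
          have h3 : n * (u⁻¹ * X₁ u * X₁ n * (u⁻¹ * X₁ u)⁻¹) =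
              n * u⁻¹ * (X₁ u * X₁ n) * (u⁻¹ * X₁ u)⁻¹ := by group
          rw [h3]
          exact h2
      obtain ⟨k, τ, hτ⟩ := ReeOut.exists_of_frame hm hK F hfr
      have hXX₂ : X₂ = MulAut.conj (u⁻¹ * y⁻¹) * X * (MulAut.conj (u⁻¹ * y⁻¹))⁻¹ := by
        rw [hX₂, hX₁]
        simp only [map_mul, map_inv]
        group
      have hτ1 : τ ≠ 1 := by
        rintro rfl
        apply hx
        refine mem_of_inner hmin e ?_
        rw [← hXdef]
        have h1 : X = (MulAut.conj (u⁻¹ * y⁻¹))⁻¹ * X₂ * MulAut.conj (u⁻¹ * y⁻¹) := by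
          rw [hXX₂]
          group
        rw [hΦ1, mul_one] at hτ
        exact ⟨(u⁻¹ * y⁻¹)⁻¹ * h k * (u⁻¹ * y⁻¹), by
          rw [h1, hτ]
          simp only [map_mul, map_inv]⟩
      have hX₂p : X₂ ^ p = 1 := by
        rw [hX₂, conj_pow, hX₁p, mul_one, mul_inv_cancel]
      rw [hτ] at hX₂p
      obtain ⟨ho, c, hc⟩ := exists_conj_frame (h := h) (Φ := Φ) D.h_mul (ReeOut.h_injective D) hΦmul hΦ1 F.onH
        (fun τ g hg => eq_one_of_conj hK F (g := g) fun s => by rw [hg, MulAut.conj_apply])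
        (fun a ha => ReeOut.conj_eq_one D hK (h a) ⟨a, rfl⟩ ha) hp.out hX₂p hτ1
      -- count
      have hcard : Nat.card (fixedSub X) = Nat.card (fixedSub (Φ τ)) := by
        rw [← card_fixedSub_conj (MulAut.conj (u⁻¹ * y⁻¹)) X, ← hXX₂, hτ, hc, card_fixedSub_conj]
      have hcF := Cfsg.Agent.H202.Descent.card_fixed ho
      set c₀ := Nat.card ↥(RingHom.eqLocusField (τ : K →+* K) (RingHom.id K)) with hc₀
      refine false_of_factorization hmin e ?_
      have hdvd := dvd_card hmin e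
      have hcL : Nat.card L = (c₀ ^ p) ^ 3 * (c₀ ^ p - 1) * (1 + (c₀ ^ p) ^ 3) := by
        rw [card_eq D, ← Nat.card_eq_fintype_card, hcF, add_comm ((c₀ ^ p) ^ 3) 1]
      rw [hcL] at hdvd ⊢
      rw [← hXdef, hcard, card_fixed F, ← hc₀]
      have hn2 : 2 ≤ c₀ := by
        rw [hc₀]
        exact Finite.one_lt_card
      refine lt_factorization hp.out hp2 hn2 ?_ (by norm_num) hdvd
      intro h1
      have h2 : p ∣ 3 ^ (2 * m + 1) := by
        rw [← hK, ← Nat.card_eq_fintype_card, hcF]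
        exact dvd_pow h1 hp.out.ne_zero
      have := (Nat.prime_dvd_prime_iff_eq hp.out Nat.prime_three).1 (hp.out.dvd_of_dvd_pow h2)
      omega

end abs

/-- **The row of the small Ree groups.** -/
theorem row {p : ℕ} [hp : Fact p.Prime] (hp2 : p ≠ 2) {L : Type v} [Group L] (hL : Cfsg.Lie.IsoRee L) :
    Row.{u} p L := by
  obtain ⟨K, iK, iK', m, hm, hK, ⟨f⟩⟩ := hL
  obtain ⟨θ, c⟩ := Cfsg.Agent.ChevalleyStructure.Ree.Normal.exists_ctx hK
  refine Row.congr f (row_abs hp2 hm hK (Cfsg.Agent.ChevalleyStructure.Ree.Data.data c) (FldAut.reeFld c) ?_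
    (fun σ τ => FldAut.fldG_mul σ τ _) fun q _ hq P => Cfsg.Agent.S1156.result hm hK hq P)
  have h1 := FldAut.fldG_mul (1 : K ≃+* K) 1 (3 ^ m)
  rw [mul_one] at h1
  exact mul_eq_left.1 h1.symm

end Cfsg.Agent.H628.ZRowRee
end

-- part: H628/ZRowSz
section
set_option linter.all false
open scoped Cfsg.Agent.FastGrp

/-!
# The `Z*_p` row of the Suzuki groups (helper628)

`Row p L` for `IsoSuzuki L` and every odd prime `p`.

Inner case: the Sylow `p`-subgroups are cyclic (T3). Outer case: the induced automorphism `X` normalises a Sylow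
2-subgroup (T2 applied to a central involution, which is fixed up to conjugation by all automorphisms) and fixes an
opposite one, hence is conjugate to a field automorphism (Hilbert 90); it fixes a Sylow `p`-subgroup elementwise, but
`|Sz(q₀)|_p < |Sz(q₀ ^ p)|_p`.
-/

set_option autoImplicit false

namespace Cfsg.Agent.H628.ZRowSz

open Subgroup Cfsg Cfsg.Agent.H256.ZBasic Cfsg.Agent.H256.ZRed Cfsg.Agent.H256.ZTool Cfsg.Agent.H28.ZIso
  Cfsg.Agent.H628.ZRankOne Cfsg.Agent.ThreePrime Cfsg.Agent.ThreePrime.SzRel Cfsg.Agent.LieRecognition.SzMatrix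
  Cfsg.Agent.H70.SzOut

universe u v

section rel

variable {J : Type*} [Group J] {F : Type*} [Field F] (R : SzRel.Rel J F)

/-- The cells of the Bruhat decomposition. -/
def nf1 (z : (F × F) × Fˣ) : J := R.u z.1.1 z.1.2 * R.d z.2

def nf2 (z : (F × F) × Fˣ × (F × F)) : J := R.u z.1.1 z.1.2 * R.w * (R.u z.2.2.1 z.2.2.2 * R.d z.2.1)

theorem huniq {u : J} (hu : u ∈ R.T) (h : R.w⁻¹ * u * R.w ∈ normalizer (R.T : Set J)) : u = 1 := by
  obtain ⟨a, b, rfl⟩ := hu
  rw [R.w_inv] at h
  obtain ⟨c, e, k, h1⟩ := R.norm h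
  obtain ⟨rfl, rfl⟩ := R.inter _ _ _ _ _ h1
  exact R.u_zero

theorem hbr {g : J} (hg : g ∉ normalizer (R.T : Set J)) : ∃ u ∈ R.T, (u * R.w)⁻¹ * g ∈ normalizer (R.T : Set J) := by
  rcases R.bruhat g with ⟨a, b, k, h1⟩ | ⟨a, b, c, e, k, h1⟩
  · exact absurd (h1 ▸ R.ud_mem_normalizer a b k) hg
  · refine ⟨R.u a b, R.u_mem a b, ?_⟩
    rw [h1, inv_mul_cancel_left]
    exact R.ud_mem_normalizer c e k

theorem nf_bijective : Function.Bijective (Sum.elim (nf1 R) (nf2 R)) := by
  have hnot : ∀ (z : (F × F) × Fˣ) (y : (F × F) × Fˣ × (F × F)), nf1 R z ≠ nf2 R y := by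
    intro z y h
    apply R.w_not_mem_normalizer
    have h1 : R.w = (R.u y.1.1 y.1.2)⁻¹ * nf1 R z * (R.u y.2.2.1 y.2.2.2 * R.d y.2.1)⁻¹ := by
      rw [h, nf2]
      group
    rw [h1]
    have h2 : R.u y.1.1 y.1.2 ∈ normalizer (R.T : Set J) := le_normalizer (R.u_mem _ _)
    exact mul_mem (mul_mem (inv_mem h2) (R.ud_mem_normalizer _ _ _)) (inv_mem (R.ud_mem_normalizer _ _ _))
  constructor
  · rintro (z | z) (y | y) h
    · obtain ⟨h1, h2, h3⟩ := R.ud_inj (show R.u z.1.1 z.1.2 * R.d z.2 = R.u y.1.1 y.1.2 * R.d y.2 from h)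
      exact congrArg Sum.inl (Prod.ext (Prod.ext h1 h2) h3)
    · exact absurd h (hnot z y)
    · exact absurd h.symm (hnot y z)
    · have h0 : R.u z.1.1 z.1.2 * R.w * (R.u z.2.2.1 z.2.2.2 * R.d z.2.1) =
        R.u y.1.1 y.1.2 * R.w * (R.u y.2.2.1 y.2.2.2 * R.d y.2.1) := h
      have h1 : R.w⁻¹ * ((R.u y.1.1 y.1.2)⁻¹ * R.u z.1.1 z.1.2) * R.w =
          (R.u y.2.2.1 y.2.2.2 * R.d y.2.1) * (R.u z.2.2.1 z.2.2.2 * R.d z.2.1)⁻¹ := by
        calc R.w⁻¹ * ((R.u y.1.1 y.1.2)⁻¹ * R.u z.1.1 z.1.2) * R.w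
            = R.w⁻¹ * (R.u y.1.1 y.1.2)⁻¹ * (R.u z.1.1 z.1.2 * R.w * (R.u z.2.2.1 z.2.2.2 * R.d z.2.1)) *
                (R.u z.2.2.1 z.2.2.2 * R.d z.2.1)⁻¹ := by group
          _ = _ := by rw [h0]; group
      have h2 := huniq R (mul_mem (inv_mem (R.u_mem y.1.1 y.1.2)) (R.u_mem z.1.1 z.1.2)) (by
        rw [h1]
        exact mul_mem (R.ud_mem_normalizer _ _ _) (inv_mem (R.ud_mem_normalizer _ _ _)))
      have h3 : R.u z.1.1 z.1.2 = R.u y.1.1 y.1.2 := (inv_mul_eq_one.1 h2).symm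
      rw [h3] at h0
      have h4 := mul_left_cancel h0
      obtain ⟨h5, h6⟩ := R.u_inj h3
      obtain ⟨h7, h8, h9⟩ := R.ud_inj h4
      exact congrArg Sum.inr (Prod.ext (Prod.ext h5 h6) (Prod.ext h9 (Prod.ext h7 h8)))
  · intro g
    rcases R.bruhat g with ⟨a, b, k, h1⟩ | ⟨a, b, c, e, k, h1⟩
    · exact ⟨Sum.inl ((a, b), k), h1.symm⟩
    · exact ⟨Sum.inr ((a, b), k, (c, e)), h1.symm⟩

end rel

section sz

variable {F : Type*} [Field F] [Fintype F] {m : ℕ}

/-- The number of fixed points of a field automorphism. -/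
theorem card_fixed (hF : Fintype.card F = 2 ^ (2 * m + 1)) (σ : F ≃+* F) :
    Nat.card (fixedSub (fieldAut (good hF) σ)) =
      (Nat.card ↥(RingHom.eqLocusField (σ : F →+* F) (RingHom.id F))) ^ 2 *
        (Nat.card ↥(RingHom.eqLocusField (σ : F →+* F) (RingHom.id F)) - 1) *
        (1 + (Nat.card ↥(RingHom.eqLocusField (σ : F →+* F) (RingHom.id F))) ^ 2) := by
  have h1 := card_fixed_of (nf1 (ofGood (good hF))) (nf2 (ofGood (good hF))) (nf_bijective (ofGood (good hF)))
    (fieldAut (good hF) σ) (fun v : F × F => (σ v.1, σ v.2)) (fun k : Fˣ => Units.mapEquiv σ.toMulEquiv k)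
    (by
      rintro ⟨a, b⟩ k
      change fieldAut (good hF) σ ((good hF).u a b * (good hF).d k) = (good hF).u _ _ * (good hF).d _
      rw [map_mul, fieldAut_u, fieldAut_d]
      rfl)
    (by
      rintro ⟨a, b⟩ k ⟨c, e⟩
      change fieldAut (good hF) σ ((good hF).u a b * (good hF).w * ((good hF).u c e * (good hF).d k)) =
        (good hF).u _ _ * (good hF).w * ((good hF).u _ _ * (good hF).d _)
      rw [map_mul, map_mul, map_mul, fieldAut_u, fieldAut_u, fieldAut_d, fieldAut_w]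
      rfl)
  have h2 : Nat.card {v : F × F // (σ v.1, σ v.2) = v} =
      (Nat.card ↥(RingHom.eqLocusField (σ : F →+* F) (RingHom.id F))) ^ 2 := by
    rw [card_prod_fixed, card_fixed_field, pow_two]
  rw [h2, card_units_fixed] at h1
  exact h1

theorem card_sz (hF : Fintype.card F = 2 ^ (2 * m + 1)) :
    Nat.card ↥(Cfsg.Lie.Sz F (2 ^ (m + 1))) = (Nat.card F) ^ 2 * (Nat.card F - 1) * (1 + (Nat.card F) ^ 2) := by
  have h1 := card_of_nf (nf1 (ofGood (good hF))) (nf2 (ofGood (good hF))) (nf_bijective (ofGood (good hF)))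
  rw [Nat.card_prod, Nat.card_units, ← pow_two] at h1
  exact h1

theorem row_aux {p : ℕ} [hp : Fact p.Prime] (hp2 : p ≠ 2) (hm : 1 ≤ m) (hF : Fintype.card F = 2 ^ (2 * m + 1)) :
    Row.{u} p ↥(Cfsg.Lie.Sz F (2 ^ (m + 1))) := by
  intro G _ _ x h e
  by_cases hx : x ∈ commutator G
  · -- inner
    have ht := commutator_eq_top h hx
    let f : G ≃* ↥(Cfsg.Lie.Sz F (2 ^ (m + 1))) :=
      (Subgroup.topEquiv.symm.trans (MulEquiv.subgroupCongr ht.symm)).trans e
    have h' := MinCex.map h f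
    obtain ⟨P⟩ : Nonempty (Sylow p ↥(Cfsg.Lie.Sz F (2 ^ (m + 1)))) := inferInstance
    refine not_comm_sylow h'.iso h'.ord (Cfsg.Agent.H67.SzOdd.perfect_sz hm hF) P fun a ha b hb => ?_
    have hc : IsCyclic P := Cfsg.Agent.H67.SzOdd.sylow_cyclic hm hF hp2 P
    obtain ⟨z, hz⟩ := hc.exists_generator
    have h1 : (⟨a, ha⟩ : P) * ⟨b, hb⟩ = ⟨b, hb⟩ * ⟨a, ha⟩ := by
      obtain ⟨i, hi⟩ := mem_zpowers_iff.1 (hz ⟨a, ha⟩)
      obtain ⟨j, hj⟩ := mem_zpowers_iff.1 (hz ⟨b, hb⟩)
      rw [← hi, ← hj]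
      exact (Commute.refl z).zpow_zpow i j
    exact congrArg Subtype.val h1
  · -- outer
    have h8 : 8 ≤ Nat.card F := by
      rw [Nat.card_eq_fintype_card, hF]
      exact SzRel.Rel.eight_le hm
    set X := MulAut.congr e (MulAut.conjNormal x) with hXdef
    have hXp : X ^ p = 1 := by
      rw [hXdef, ← map_pow, ← map_pow, ← h.ord, pow_orderOf_eq_one, map_one, map_one]
    set R := ofGood (good hF) with hR
    obtain ⟨g, σ, hg⟩ := Cfsg.Agent.H70.SzAutThm.exists_conj_field hm hF X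
    have hs2 : orderOf (R.u 0 1) = 2 := by
      rw [orderOf_eq_prime_iff, pow_two]
      exact ⟨(R.u_sq_iff 0 1).2 rfl, R.u_ne_one one_ne_zero⟩
    have : Fact (Nat.Prime 2) := ⟨Nat.prime_two⟩
    obtain ⟨S, hS⟩ := exists_norm_sylow h hx e (Ne.symm hp2) (g := g) hs2 (by
      rw [← hXdef, hg, MulAut.mul_apply, MulAut.conj_apply]
      change g * (fieldAut (good hF) σ ((good hF).u 0 1)) * g⁻¹ = g * (good hF).u 0 1 * g⁻¹
      rw [fieldAut_u, map_zero, map_one])
    rw [← hXdef] at hS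
    obtain ⟨T, hT⟩ := exists_sylow hm hF
    obtain ⟨y, hy⟩ := MulAction.exists_smul_eq ↥(Cfsg.Lie.Sz F (2 ^ (m + 1))) S T
    -- the conjugate normalising `T`
    set X₁ : MulAut ↥(Cfsg.Lie.Sz F (2 ^ (m + 1))) := MulAut.conj y * X * (MulAut.conj y)⁻¹ with hX₁
    have hX₁T : ∀ z ∈ R.T, X₁ z ∈ R.T := by
      intro z hz
      have h1 : (MulAut.conj y)⁻¹ z ∈ (S : Subgroup _) := by
        rw [← hT, ← hy, Sylow.coe_subgroup_smul, Subgroup.mem_pointwise_smul_iff_inv_smul_mem] at hz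
        exact hz
      have h2 := hS _ h1
      rw [← hT, ← hy, Sylow.coe_subgroup_smul, Subgroup.mem_pointwise_smul_iff_inv_smul_mem]
      change (MulAut.conj y)⁻¹ (MulAut.conj y (X ((MulAut.conj y)⁻¹ z))) ∈ (S : Subgroup _)
      rwa [MulAut.inv_apply_self]
    have hX₁p : X₁ ^ p = 1 := by
      rw [hX₁, conj_pow, hXp, mul_one, mul_inv_cancel]
    have hpT : ¬ p ∣ Nat.card R.T := by
      intro h1
      obtain ⟨n, hn⟩ := R.isPGroup.exists_card_eq
      rw [hn] at h1
      exact hp2 ((Nat.prime_dvd_prime_iff_eq hp.out Nat.prime_two).1 (hp.out.dvd_of_dvd_pow h1))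
    obtain ⟨u, huT, hu⟩ := exists_opp (U := R.T) (w := R.w) (fun g hg => hbr R hg) (fun u hu => huniq R hu)
      R.w_not_mem_normalizer hX₁p hX₁T hpT
    set X₂ : MulAut ↥(Cfsg.Lie.Sz F (2 ^ (m + 1))) := MulAut.conj u⁻¹ * X₁ * (MulAut.conj u⁻¹)⁻¹ with hX₂
    have hX₂a : ∀ z, X₂ z = u⁻¹ * X₁ u * X₁ z * (u⁻¹ * X₁ u)⁻¹ := by
      intro z
      rw [hX₂, MulAut.mul_apply, MulAut.mul_apply, ← map_inv, inv_inv, MulAut.conj_apply, MulAut.conj_apply, map_mul,
        map_mul, map_inv]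
      group
    have hfix : Fix R X₂ := by
      constructor
      · intro z hz
        rw [hX₂a]
        have h1 : u⁻¹ * X₁ u ∈ R.T := mul_mem (inv_mem huT) (hX₁T u huT)
        exact mul_mem (mul_mem h1 (hX₁T z hz)) (inv_mem h1)
      · rw [hX₂a]
        have h1 : (u⁻¹ * X₁ u)⁻¹ ∈ normalizer (R.T : Set ↥(Cfsg.Lie.Sz F (2 ^ (m + 1)))) :=
          le_normalizer (inv_mem (mul_mem (inv_mem huT) (hX₁T u huT)))
        have h2 := mul_mem hu h1
        rw [_root_.mul_inv_rev, R.w_inv, map_mul] at h2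
        have h3 : R.w * (u⁻¹ * X₁ u * X₁ R.w * (u⁻¹ * X₁ u)⁻¹) =
            R.w * u⁻¹ * (X₁ u * X₁ R.w) * (u⁻¹ * X₁ u)⁻¹ := by group
        rw [h3]
        exact h2
    obtain ⟨τ, k, hτ⟩ := eq_of_fix h8 (good hF) hfix
    -- `X` is conjugate to `X₂`
    have hXX₂ : X₂ = MulAut.conj (u⁻¹ * y) * X * (MulAut.conj (u⁻¹ * y))⁻¹ := by
      rw [hX₂, hX₁, map_mul]
      group
    have hτ1 : τ ≠ 1 := by
      rintro rfl
      apply hx
      refine mem_of_inner h e ?_
      rw [← hXdef]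
      have h1 : X = (MulAut.conj (u⁻¹ * y))⁻¹ * X₂ * MulAut.conj (u⁻¹ * y) := by
        rw [hXX₂]
        group
      rw [map_one, mul_one] at hτ
      exact ⟨(u⁻¹ * y)⁻¹ * (good hF).d k * (u⁻¹ * y), by
        rw [h1, hτ]
        simp only [map_mul, map_inv]⟩
    have hX₂p : X₂ ^ p = 1 := by
      rw [hX₂, conj_pow, hX₁p, mul_one, mul_inv_cancel]
    rw [hτ] at hX₂p
    obtain ⟨ho, c, hc⟩ := exists_conj_frame (h := (good hF).d) (Φ := fieldAut (good hF))
      (fun a b => ((good hF).d_mul a b).symm) (fun a b hab => (good hF).d_inj hab) (fun σ τ => map_mul _ σ τ)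
      (map_one _) (fun τ a => fieldAut_d (good hF) τ a) (fun τ g hg => eq_one_of_conj (good hF) hg)
      (by
        intro a ha
        have h1 : (good hF).d a ∈ center ↥(Cfsg.Lie.Sz F (2 ^ (m + 1))) := by
          rw [mem_center_iff]
          intro z
          have h2 := congrArg (fun β : MulAut _ => β z) ha
          simp only [MulAut.conj_apply, MulAut.one_apply] at h2
          rw [mul_inv_eq_iff_eq_mul] at h2
          exact h2.symm
        rw [Cfsg.Agent.H67.SzOdd.center_sz hm hF, mem_bot] at h1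
        exact h1) hp.out hX₂p hτ1
    -- count
    have hcard : Nat.card (fixedSub X) = Nat.card (fixedSub (fieldAut (good hF) τ)) := by
      rw [← card_fixedSub_conj (MulAut.conj (u⁻¹ * y)) X, ← hXX₂, hτ, hc, card_fixedSub_conj]
    have hcF := Cfsg.Agent.H202.Descent.card_fixed ho
    set n := Nat.card ↥(RingHom.eqLocusField (τ : F →+* F) (RingHom.id F)) with hn
    refine false_of_factorization h e ?_
    have hdvd := dvd_card h e
    rw [card_sz hF, hcF] at hdvd ⊢
    rw [← hXdef, hcard, card_fixed hF, ← hn]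
    have hn2 : 2 ≤ n := by
      rw [hn]
      exact Finite.one_lt_card
    refine lt_factorization hp.out hp2 hn2 ?_ (by norm_num) hdvd
    intro h1
    have h2 : p ∣ 2 ^ (2 * m + 1) := by
      rw [← hF, ← Nat.card_eq_fintype_card, hcF]
      exact dvd_pow h1 hp.out.ne_zero
    exact hp2 ((Nat.prime_dvd_prime_iff_eq hp.out Nat.prime_two).1 (hp.out.dvd_of_dvd_pow h2))

end sz

/-- **The row of the Suzuki groups.** -/
theorem row {p : ℕ} [hp : Fact p.Prime] (hp2 : p ≠ 2) {L : Type v} [Group L] (hL : Cfsg.Lie.IsoSuzuki L) :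
    Row.{u} p L := by
  obtain ⟨F, iF, iF', m, hm, hc, ⟨f⟩⟩ := hL
  exact Row.congr f (row_aux hp2 hm hc)

end Cfsg.Agent.H628.ZRowSz

private theorem dce_0712b129fd60 : _root_.True := by
  try have : _root_.True := by simp only [_root_.Cfsg.Agent.H628.ZRowSz.nf2.eq_1]
  exact _root_.True.intro
end
end
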