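import Cfsg.Agent.H296.FFourFix
import Cfsg.Agent.H28.Frob_m3
import Cfsg.Agent.H71.FldAut
import Cfsg.Agent.H522.FldSixLib
import Cfsg.Agent.FastGrp
import Cfsg.Agent.Prune
set_option linter.all false
prune_inst 0x7ffdfffbfff8ffffffff7e7ffedfdfffffffffffffdffbfbfffcf1ffafdfeb0edde5fbadffeb5bff2ff762be38fc7bd3ffffffffef6ffc7ffffdfff45fffffdffdf7bfb971f78d3edffd6fffebf0ffce7f3fffffffffffffffffffffffffffbeffffffffffff
open scoped Cfsg.Agent.FastGrp

/-!
# Outer automorphisms of prime order of `²F₄(q)` (`Z*_p`, helper628)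

`K` finite of order `2 ^ (2 m + 1)`, `k` its algebraic closure, `em : ²F₄(K) → F₄(k)`.
* `eq_one_of_comm` : the centralizer of `²F₄(K)` in `F₄(k)` is trivial;
* `out` : an automorphism of odd prime order `p` of `²F₄(K)` is inner or satisfies `LangAt`.
-/

set_option autoImplicit false

namespace Cfsg.Agent.H628.ZTwF4Out

open Subgroup Cfsg Cfsg.Lie Cfsg.Lie.ChevalleyDatum
open Cfsg.Agent.ChevalleyStructure Cfsg.Agent.ChevalleyStructure.Elts
open Cfsg.Agent.GpExc.Field (glMap emb coe_emb glMap_xG emb_injective coe_glMap)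
open Cfsg.Agent.CpAut.RgdUntw (fld fld_coe fld_mul fld_one fld_pow)
open Cfsg.Agent.BpExc.FamField Cfsg.Agent.BpExc.TowChev
open Cfsg.Agent.H296.FFour (hp4 al sg al_phi_sq al_mul_fld lang4 le_fix fix_le gam_F4)
open Cfsg.Agent.ChevalleyStructure.TwF4.TwistedFix (xa xb xa_mem xb_mem gk pk Act_gk gk_mem exists_rln)
open Cfsg.Agent.ChevalleyStructure.TwF4.Rel (X n1 n2)

universe u

section Cent

variable {K : Type u} [Field K] [CharP K 2] {k : Type u} [Field k] [CharP k 2] (f : K →+* k)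

theorem X_eq (r : ℕ) (t : K) : X r t = xG hp4.inList r t := Units.ext rfl

theorem glMap_X (r : ℕ) (t : K) : glMap chevF4 f (X r t) = X r (f t) := by
  rw [X_eq, X_eq, glMap_xG]

theorem glMap_n1 : glMap chevF4 f (n1 K) = n1 k := by
  simp only [n1, TwF4.Rel.nG, map_mul, glMap_X, map_one]

theorem glMap_n2 : glMap chevF4 f (n2 K) = n2 k := by
  simp only [n2, TwF4.Rel.nG, map_mul, glMap_X, map_one]

theorem glMap_gk (j : ℕ) : glMap chevF4 f (gk K j) = gk k j := by
  induction j with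
  | zero => exact map_one _
  | succ j ih =>
    show glMap chevF4 f ((if j % 2 = 0 then n1 K else n2 K) * gk K j) = (if j % 2 = 0 then n1 k else n2 k) * gk k j
    rw [map_mul, ih]
    split_ifs
    · rw [glMap_n1]
    · rw [glMap_n2]

theorem neg_tab : ∀ r < 48, chevF4.neg r = 47 - r := by decide +kernel

theorem nG_mono {r : ℕ} (hr : r < 48) : TwF4.Rel.nG k r ∈ chevF4.monomialSubgroup k := by
  have h1 : TwF4.Rel.nG k r = nG hp4.inList r (1 : k) := by
    rw [nG_def, neg_tab r hr, CharTwo.neg_eq, inv_one, ← mul_assoc]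
    simp only [TwF4.Rel.nG, X_eq]
  rw [h1]
  exact Cfsg.Agent.BpExc.EmbTw.nG_mem_mono hp4.inList hr one_ne_zero

theorem gk_mono (j : ℕ) : gk k j ∈ chevF4.monomialSubgroup k := by
  induction j with
  | zero => exact one_mem _
  | succ j ih =>
    show (if j % 2 = 0 then n1 k else n2 k) * gk k j ∈ _
    split_ifs
    · exact mul_mem (mul_mem (nG_mono (by norm_num)) (nG_mono (by norm_num))) ih
    · exact mul_mem (mul_mem (mul_mem (mul_mem (nG_mono (by norm_num)) (nG_mono (by norm_num)))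
        (nG_mono (by norm_num))) (nG_mono (by norm_num))) ih

open TwF4.Groups (Act Act_one Act_mul Act_n1 Act_n2) in
theorem act_gk (j : ℕ) : Act (gk k j) (pk j) := by
  induction j with
  | zero => exact Act_one
  | succ j ih =>
    by_cases hj : j % 2 = 0
    · have h1 : gk k (j + 1) = n1 k * gk k j := by
        show (if j % 2 = 0 then n1 k else n2 k) * gk k j = _
        rw [if_pos hj]
      have h2 : pk (j + 1) = fun r => TwF4.Rel.w1 (pk j r) := by
        funext r
        show (if j % 2 = 0 then TwF4.Rel.w1 (pk j r) else TwF4.Rel.w2 (pk j r)) = _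
        rw [if_pos hj]
      rw [h1, h2]
      exact Act_mul Act_n1 ih
    · have h1 : gk k (j + 1) = n2 k * gk k j := by
        show (if j % 2 = 0 then n1 k else n2 k) * gk k j = _
        rw [if_neg hj]
      have h2 : pk (j + 1) = fun r => TwF4.Rel.w2 (pk j r) := by
        funext r
        show (if j % 2 = 0 then TwF4.Rel.w1 (pk j r) else TwF4.Rel.w2 (pk j r)) = _
        rw [if_neg hj]
      rw [h1, h2]
      exact Act_mul Act_n2 ih

theorem pk8 : ∀ r < 24, 24 ≤ pk 8 r ∧ pk 8 r < 48 := by decide +kernel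

theorem gk8_neg : ∀ v ∈ chevF4.negUnipotent k, gk k 8 * v * (gk k 8)⁻¹ ∈ chevF4.posUnipotent k := by
  have h1 : chevF4.negUnipotent k ≤ (chevF4.posUnipotent k).comap (MulAut.conj (gk k 8)).toMonoidHom := by
    rw [negUnipotent_le_iff hp4.inList]
    intro r hr t
    have hr' : r < 24 := (TwF4.Groups.isNegRoot_iff r).1 hr
    rw [← X_eq, Subgroup.mem_comap]
    show gk k 8 * X r t * (gk k 8)⁻¹ ∈ _
    rw [(act_gk (k := k) 8).2 r (by omega) t, X_eq]
    exact xG_mem_posUnipotent hp4.inList ((TwF4.Groups.isPosRoot_iff _).2 ⟨(pk8 r hr').2, (pk8 r hr').1⟩) _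
  exact fun v hv => h1 hv

theorem simple_tab : ∀ i < chevF4.rank, (chevF4.simple i = 33 ∨ chevF4.simple i = 24) ∨
    (chevF4.simple i = 27 ∨ chevF4.simple i = 25) := by decide +kernel

open Cfsg.Agent.H522.FamTw in
/-- **The centralizer of `²F₄(K)` in `F₄(k)` is trivial.** -/
theorem eq_one_of_comm [Finite K] {e : ℕ} (he : 0 < e) {z : GL chevF4.Idx k} (hz : z ∈ chevF4.group k)
    (h : ∀ g ∈ twistedF4 K e, z * glMap chevF4 f g = glMap chevF4 f g * z) : z = 1 := by
  have h1 := h _ (mul_mem (xa_mem (e := e) (1 : K)) (xb_mem (e := e) (1 : K) 0))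
  have h2 := h _ (gk_mem (K := K) he 8)
  rw [glMap_gk] at h2
  have e1 : glMap chevF4 f (xa e (1 : K) * xb e (1 : K) 0) =
      wordG hp4.inList [(33, (1 : k)), (24, 1), (27, 1), (25, 1), (28, 1), (30, 0)] := by
    unfold xa xb TwF4.Twisted.NF
    simp only [map_mul, X_eq, glMap_xG, one_pow, map_one, add_zero, zero_pow (Nat.mul_ne_zero two_ne_zero he.ne'),
      map_zero, wordG_cons, wordG_nil, mul_one, mul_assoc]
  rw [e1] at h1
  have hmem : ∀ x ∈ [(33, (1 : k)), (24, 1), (27, 1), (25, 1), (28, 1), (30, 0)], chevF4.IsPosRoot x.1 := by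
    intro x hx
    rw [TwF4.Groups.isPosRoot_iff]
    simp only [List.mem_cons, List.not_mem_nil, or_false] at hx
    rcases hx with rfl | rfl | rfl | rfl | rfl | rfl <;> simp
  refine Cent.eq_one_of_comm hp4 hz (u := wordG hp4.inList [(33, (1 : k)), (24, 1), (27, 1), (25, 1), (28, 1), (30, 0)])
    (n := gk k 8) ?_ ?_ h1 (gk_mono 8) gk8_neg h2
  · simp only [wordG_cons, wordG_nil]
    exact mul_mem (xG_mem_posUnipotent hp4.inList (hmem (33, 1) (by simp)) _)
      (mul_mem (xG_mem_posUnipotent hp4.inList (hmem (24, 1) (by simp)) _)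
      (mul_mem (xG_mem_posUnipotent hp4.inList (hmem (27, 1) (by simp)) _)
      (mul_mem (xG_mem_posUnipotent hp4.inList (hmem (25, 1) (by simp)) _)
      (mul_mem (xG_mem_posUnipotent hp4.inList (hmem (28, 1) (by simp)) _)
      (mul_mem (xG_mem_posUnipotent hp4.inList (hmem (30, 0) (by simp)) _) (one_mem _))))))
  · intro i hi
    refine ⟨_, Cent.co_word hi _ hmem, ?_⟩
    rcases simple_tab i hi with (h1 | h1) | (h1 | h1) <;> simp [h1]

end Cent

section Main

open Cfsg.Agent.BpExc.FamField Cfsg.Agent.BpExc.FamUntw Cfsg.Agent.BpExc.FamExt Cfsg.Agent.H28.ZIso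
  Cfsg.Agent.H28.Frob

variable {K : Type u} [Field K] [Fintype K] [CharP K 2] [PerfectRing K 2] [h2 : Fact (Nat.Prime 2)] {m : ℕ}
  (hK : Fintype.card K = 2 ^ (2 * m + 1))

include hK in
theorem le_group : twistedF4 K (2 ^ m) ≤ chevF4.group K := by
  intro g hg
  obtain ⟨a, rfl, -⟩ := le_fix hK (τ := frb K 2 m) (fun a => frb_apply K 2 m a) hg
  exact a.2

/-- `²F₄(K) → F₄(K)` -/
noncomputable def inc : ↥(twistedF4 K (2 ^ m)) →* ↥(chevF4.group K) := Subgroup.inclusion (le_group hK)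

theorem sg_inc (a : ↥(twistedF4 K (2 ^ m))) : sg (frb K 2 m) (inc hK a) = inc hK a := by
  obtain ⟨b, hb, e⟩ := le_fix hK (τ := frb K 2 m) (fun a => frb_apply K 2 m a) a.2
  have h1 : b = inc hK a := Subtype.ext hb
  rwa [h1] at e

theorem fld_inc (τ : K ≃+* K) (a : ↥(twistedF4 K (2 ^ m))) :
    fld chevF4 τ (inc hK a) = inc hK (S2128.fld τ (2 ^ m) a) := by
  apply Subtype.ext
  apply Units.ext
  rfl

include hK in
theorem frb_add (i : ℕ) : frb K 2 (2 * m + 1 + i) = frb K 2 i := by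
  ext a
  have hn : Nat.card K = 2 ^ (2 * m + 1) := by rw [Nat.card_eq_fintype_card, hK]
  rw [frb_apply, frb_apply, pow_add, pow_mul, (forall_pow_iff 2 hn (2 * m + 1)).2 (dvd_refl _)]

theorem sg_inc_of (j : ℕ) (a : ↥(twistedF4 K (2 ^ m))) :
    sg (frb K 2 j) (inc hK a) = inc hK (S2128.fld (frb K 2 (m + 1 + j)) (2 ^ m) a) := by
  rw [← sg_inc hK (S2128.fld (frb K 2 (m + 1 + j)) (2 ^ m) a), ← fld_inc]
  unfold sg
  rw [MulAut.mul_apply, MulAut.mul_apply]
  have h1 : fld chevF4 (frb K 2 m) (fld chevF4 (frb K 2 (m + 1 + j)) (inc hK a)) =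
      fld chevF4 (frb K 2 m * frb K 2 (m + 1 + j)) (inc hK a) := by
    rw [fld_mul]
    rfl
  rw [h1]
  congr 3
  rw [← frb_add hK j]
  ext a
  rw [RingAut.mul_apply, frb_apply, frb_apply, frb_apply, ← pow_mul, ← pow_add]
  congr 2
  ring

variable {k : Type u} [Field k] [CharP k 2] [PerfectRing k 2] [IsAlgClosed k] (f : K →+* k)

/-- `²F₄(K) → F₄(k)` -/
noncomputable def em : ↥(twistedF4 K (2 ^ m)) →* ↥(chevF4.group k) := (emb hp4.inList f).comp (inc hK)

omit [PerfectRing k 2] [IsAlgClosed k] in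
theorem em_injective : Function.Injective (em hK f) :=
  (emb_injective hp4.inList f).comp (Subgroup.inclusion_injective _)

theorem sig_emb (j : ℕ) (b : ↥(chevF4.group K)) :
    (al k * phi chevF4 k 2 j) (emb hp4.inList f b) = emb hp4.inList f (sg (frb K 2 j) b) := by
  rw [MulAut.mul_apply]
  unfold phi sg
  rw [fld_emb hp4 f (τ := frb K 2 j) (fun a => by rw [frb_apply, frb_apply, map_pow]), (gam_F4 f).nat, MulAut.mul_apply]

theorem sig_em (j : ℕ) (a : ↥(twistedF4 K (2 ^ m))) :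
    (al k * phi chevF4 k 2 j) (em hK f a) = em hK f (S2128.fld (frb K 2 (m + 1 + j)) (2 ^ m) a) := by
  show (al k * phi chevF4 k 2 j) (emb hp4.inList f (inc hK a)) = emb hp4.inList f (inc hK _)
  rw [sig_emb, sg_inc_of]

theorem sig_em_self (a : ↥(twistedF4 K (2 ^ m))) : (al k * phi chevF4 k 2 m) (em hK f a) = em hK f a := by
  show (al k * phi chevF4 k 2 m) (emb hp4.inList f (inc hK a)) = emb hp4.inList f (inc hK _)
  rw [sig_emb, sg_inc]

omit [IsAlgClosed k] in
theorem sig_pow {j s : ℕ} (hm : m = (2 * j + 1) * s + j) :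
    (al k * phi chevF4 k 2 j) ^ (2 * s + 1) = al k * phi chevF4 k 2 m := by
  have h3 : al k * phi chevF4 k 2 ((2 * j + 1) * s) = phi chevF4 k 2 ((2 * j + 1) * s) * al k := al_mul_fld _
  rw [pow_succ, pow_mul, pow_two, al_phi_sq, phi_pow, ← mul_assoc, ← h3, mul_assoc, Cfsg.Agent.H296.Core.phi_mul, ← hm]

omit [IsAlgClosed k] in
theorem em_comm (z : ↥(chevF4.group k)) (h : ∀ a, z * em hK f a = em hK f a * z) : z = 1 := by
  apply Subtype.ext
  refine eq_one_of_comm f (e := 2 ^ m) (by positivity) z.2 fun g hg => ?_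
  exact congrArg Subtype.val (h ⟨g, hg⟩)

/-- fixed points normalise the image -/
theorem em_conj (z : ↥(chevF4.group k)) (hz : (al k * phi chevF4 k 2 m) z = z) (a : ↥(twistedF4 K (2 ^ m))) :
    ∃ b, z * em hK f a * z⁻¹ = em hK f b := by
  have h1 : phi chevF4 k 2 (2 * m + 1) z = z := by
    rw [← al_phi_sq, MulAut.mul_apply, hz, hz]
  obtain ⟨b, hb⟩ := Cfsg.Agent.BpExc.Emb.conj_mem_range hp4.inList (f := f)
    (φ := ((frb k 2 (2 * m + 1) : k ≃+* k) : k →+* k)) (fun t => by rw [hK]; exact frb_apply k 2 _ t)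
    (σ := phi chevF4 k 2 (2 * m + 1)) (fun y => by apply Units.ext; rfl) h1 ⟨inc hK a, rfl⟩
  have h3 : sg (frb K 2 m) b = b := by
    apply emb_injective hp4.inList f
    rw [← sig_emb, hb, map_mul, map_mul, map_inv, hz]
    have h4 := sig_em_self hK f a
    have h5 : em hK f a = emb hp4.inList f (inc hK a) := rfl
    rw [h5] at h4
    rw [h4]
  have h4 := fix_le hK (τ := frb K 2 m) (fun a => frb_apply K 2 m a) h3
  exact ⟨⟨b, h4⟩, hb.symm⟩

omit [Fintype K] [CharP K 2] [PerfectRing K 2] h2 in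
theorem fldF_one : S2128.fld (1 : K ≃+* K) (2 ^ m) = 1 := by
  ext g : 1
  apply Subtype.ext
  apply Units.ext
  rw [Cfsg.Agent.H71.FldAut.coe_fldF]
  ext i j
  rfl

omit [Fintype K] [CharP K 2] [PerfectRing K 2] h2 in
theorem pow_form {g0 : ↥(twistedF4 K (2 ^ m))} {τ : K ≃+* K} (n : ℕ) :
    ∃ g, (MulAut.conj g0 * S2128.fld τ (2 ^ m)) ^ n = MulAut.conj g * S2128.fld (τ ^ n) (2 ^ m) := by
  induction n with
  | zero => exact ⟨1, by rw [pow_zero, pow_zero, fldF_one, map_one, one_mul]⟩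
  | succ n ih =>
    obtain ⟨g, hg⟩ := ih
    refine ⟨g * S2128.fld (τ ^ n) (2 ^ m) g0, ?_⟩
    rw [pow_succ, hg, pow_succ, Cfsg.Agent.H71.FldAut.fldF_mul]
    ext y : 1
    simp only [MulAut.mul_apply, MulAut.conj_apply, map_mul, map_inv, mul_inv_rev, mul_assoc]

theorem pow_psi {N : ↥(twistedF4 K (2 ^ m))} {j : ℕ} (n : ℕ) :
    ∃ g, (MulAut.conj (em hK f N) * (al k * phi chevF4 k 2 j)) ^ n =
      MulAut.conj (em hK f g) * (al k * phi chevF4 k 2 j) ^ n := by
  induction n with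
  | zero => exact ⟨1, by rw [pow_zero, pow_zero, map_one, map_one, one_mul]⟩
  | succ n ih =>
    obtain ⟨g, hg⟩ := ih
    obtain ⟨N', hN'⟩ : ∃ N', ((al k * phi chevF4 k 2 j) ^ n) (em hK f N) = em hK f N' := by
      clear hg
      induction n with
      | zero => exact ⟨N, rfl⟩
      | succ n ih =>
        obtain ⟨N', h⟩ := ih
        exact ⟨_, by rw [pow_succ', MulAut.mul_apply, h, sig_em]⟩
    refine ⟨g * N', ?_⟩
    rw [pow_succ, hg, pow_succ]
    ext y : 1
    simp only [map_mul, MulAut.mul_apply, MulAut.conj_apply, map_inv, mul_inv_rev, mul_assoc] at hN' ⊢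
    rw [hN']

include hK in
/-- **Outer automorphisms of odd prime order of `²F₄(q)`.** -/
theorem out (hm : 1 ≤ m) {p : ℕ} (hp : p.Prime) (hp2 : p ≠ 2) (x : MulAut ↥(twistedF4 K (2 ^ m)))
    (hx : orderOf x = p) : (∃ g, x = MulAut.conj g) ∨ LangAt p x := by
  obtain ⟨g0, τ0, hx0⟩ := Cfsg.Agent.H71.FldAut.twF4_aut hm hK x
  by_cases hτ : τ0 = 1
  · left
    exact ⟨g0, by rw [hx0, hτ, fldF_one, mul_one]⟩
  right
  have hxp : x ^ p = 1 := by rw [← hx, pow_orderOf_eq_one]
  -- `τ0 ^ p = 1`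
  have hτp : τ0 ^ p = 1 := by
    obtain ⟨g, hg⟩ := pow_form (g0 := g0) (τ := τ0) p
    rw [← hx0, hxp] at hg
    obtain ⟨φ, hφ⟩ := exists_rln hK
    have h1 : ∀ y, g⁻¹ * y * g⁻¹⁻¹ = S2128.fld (τ0 ^ p) (2 ^ m) y := by
      intro y
      have h2 := congrArg (fun β : MulAut ↥(twistedF4 K (2 ^ m)) => g⁻¹ * β y * g) hg
      simp only [MulAut.one_apply, MulAut.mul_apply, MulAut.conj_apply] at h2
      rw [inv_inv, h2]
      group
    have h3 := S2128.eq_one_of_conj (Cfsg.Agent.KFacts.TwF4.Inst.full hK hφ) (g := g⁻¹) (τ := τ0 ^ p)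
      (fun a t => by rw [h1]; exact S2128.fld_ro _ hφ a t) (fun a q u => by rw [h1]; exact S2128.fld_re _ hφ a q u)
    exact RingEquiv.ext h3
  obtain ⟨i, e, hi, he0, hcard, hie⟩ := exists_field 2 hp hτp hτ
  have hn : Nat.card K = 2 ^ (2 * m + 1) := by rw [Nat.card_eq_fintype_card, hK]
  have h1 : 2 * m + 1 = e * p := by
    rw [hn] at hcard
    exact Nat.pow_right_injective le_rfl hcard
  obtain ⟨s, rfl⟩ : ∃ s, p = 2 * s + 1 := by
    rcases Nat.even_or_odd p with h | h
    · exact absurd ((Nat.Prime.even_iff hp).1 h) hp2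
    · exact h
  obtain ⟨j, rfl⟩ : ∃ j, e = 2 * j + 1 := by
    rcases Nat.even_or_odd e with ⟨a, ha⟩ | h
    · exfalso
      rw [ha] at h1
      have : (a + a) * (2 * s + 1) = 2 * (a * (2 * s + 1)) := by ring
      omega
    · exact h
  have h2' : m = (2 * j + 1) * s + j := by
    have : (2 * j + 1) * (2 * s + 1) = 2 * ((2 * j + 1) * s + j) + 1 := by ring
    omega
  -- the power
  have h3 : (τ0 ^ (i * (s + 1))) = frb K 2 (m + 1 + j) := by
    ext a
    rw [pow_mul, pow_apply_of hie, frb_apply, h2']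
    congr 2
    ring
  have hs0 : 0 < s := by
    rcases Nat.eq_zero_or_pos s with h | h
    · subst h
      exact absurd hp (by norm_num)
    · exact h
  have hi' : (i * (s + 1)).Coprime (2 * s + 1) := by
    apply Nat.Coprime.mul_left hi
    rw [Nat.coprime_comm, Nat.Prime.coprime_iff_not_dvd hp]
    intro h
    have := Nat.le_of_dvd (by omega) h
    omega
  obtain ⟨N, hN⟩ := pow_form (g0 := g0) (τ := τ0) (i * (s + 1))
  rw [← hx0, h3] at hN
  have hch : CharP (AlgebraicClosure K) 2 := Cfsg.Agent.H296.Core.charP_closure K 2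
  obtain ⟨f, -⟩ : ∃ f : K →+* AlgebraicClosure K, True := ⟨algebraMap K (AlgebraicClosure K), trivial⟩
  obtain ⟨ψ, hψ0⟩ : ∃ ψ, ψ = MulAut.conj (em hK f N) *
    (al (AlgebraicClosure K) * phi chevF4 (AlgebraicClosure K) 2 j) := ⟨_, rfl⟩
  have hxψ : ∀ a, em hK f ((x ^ (i * (s + 1))) a) = ψ (em hK f a) := by
    intro a
    have h4 : ψ (em hK f a) = em hK f N * (al (AlgebraicClosure K) * phi chevF4 (AlgebraicClosure K) 2 j) (em hK f a) *
        (em hK f N)⁻¹ := by rw [hψ0]; rfl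
    rw [hN, h4, sig_em, MulAut.mul_apply, MulAut.conj_apply, map_mul, map_mul, map_inv]
  have hψ : ψ ^ (2 * s + 1) = al (AlgebraicClosure K) * phi chevF4 (AlgebraicClosure K) 2 m := by
    obtain ⟨g, hg⟩ := pow_psi hK f (N := N) (j := j) (2 * s + 1)
    rw [sig_pow h2', ← hψ0] at hg
    have h4 : ∀ n a, (ψ ^ n) (em hK f a) = em hK f (((x ^ (i * (s + 1))) ^ n) a) := by
      intro n a
      induction n with
      | zero => rfl
      | succ n ih => rw [pow_succ', MulAut.mul_apply, ih, ← hxψ, pow_succ', MulAut.mul_apply]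
    have h5 : em hK f g = 1 := by
      apply em_comm hK f
      intro a
      have h6 := h4 (2 * s + 1) a
      rw [hg, ← pow_mul, mul_comm _ (2 * s + 1), pow_mul, hxp, one_pow, MulAut.one_apply, MulAut.mul_apply,
        sig_em_self, MulAut.conj_apply, mul_inv_eq_iff_eq_mul] at h6
      exact h6
    rw [hg, h5, map_one, one_mul]
  refine langAt_of_frob (em_injective hK f) (em_comm hK f) hψ (sig_em_self hK f) (fun y hy a => em_conj hK f y hy a)
    (fun c => ?_) hp hxp hi' hxψ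
  obtain ⟨z, hz⟩ := Cfsg.Agent.LangThm.lang_conj
    (map_mul (al (AlgebraicClosure K) * phi chevF4 (AlgebraicClosure K) 2 j)) (fun c => lang4 j c) (em hK f N) c
  exact ⟨z, by rw [hψ0]; exact hz⟩

end Main

end Cfsg.Agent.H628.ZTwF4Out

private theorem dce_bfb5e2f6302b : _root_.True := by
  try have : _root_.True := by simp only [_root_.Cfsg.Agent.H628.ZTwF4Out.em.congr_simp]
  exact _root_.True.intro
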